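/-
Copyright (c) 2026 CFSG team. Released under Apache 2.0 license.
Authors: helper897
-/
import Cfsg.Agent.Omega.IId.SymWr.SylN.Base
import Cfsg.Agent.Omega.IId.Pair

/-!
# Conjugates of the situations `Sit`, `SN`, `Fours` (project OMEGA, II.d, SwBig)

`exists_cj` : for `h : SN S P V M`, `F : Fours M μ ν`, `g : G` there is `M'` over `sy g S`, `cj g P`, `cj g V` with
`SN .. M'`, `Fours M' μ ν`, `pr M' p q = g (pr M p q) g⁻¹` and `pp M' (g x g⁻¹) = pp M x`.
-/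

set_option autoImplicit false

namespace Cfsg.Agent.Omega.IId.SwB.Mixed

open Subgroup Pointwise Cfsg Cfsg.Agent.ZN Cfsg.Agent.Omega.MinPar Cfsg.Agent.Omega.FFThm
open Cfsg.Agent.Omega.IId.SymWr
open Cfsg.Agent.ZN.ChoiceBase (cj mem_cj cj_mono cj_inf cj_centralizer cj_inv_cj cj_cj_inv cj_normalizer pCore_cj
  cj_le_iff cj_cj)
open Cfsg.Agent.Omega.Half (Amb amb_of_loc)
open Cfsg.Agent.Omega.Half.SymA (Pt E Mv pm)
open Triangle (KK KK_conj cent_conj o2_cent_conj)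
open Big (cz qz)

universe u

variable {G : Type u} [Group G] {T T' H V D D' P : Subgroup G} {k m : ℕ}

theorem exists_castM (hT : T = T') (hD : D = D') (M : SymK T H V D k m) :
    ∃ M' : SymK T' H V D' k m, M'.e = M.e := by
  subst hT hD
  exact ⟨M, rfl⟩

theorem mem_cj' {g x : G} {A : Subgroup G} (hx : x ∈ A) : g * x * g⁻¹ ∈ cj g A := ⟨x, hx, rfl⟩

theorem exists_of_cj {g y : G} {A : Subgroup G} (hy : y ∈ cj g A) : ∃ x ∈ A, g * x * g⁻¹ = y := by
  obtain ⟨x, hx, h⟩ := hy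
  exact ⟨x, hx, h⟩

theorem zc_cj' (g : G) (A : Subgroup G) : zc (cj g A) = cj g (zc A) :=
  ZN.zc_map _ (MulAut.conj g).injective A

theorem cent_cj (g n : G) : centralizer ({g * n * g⁻¹} : Set G) = cj g (centralizer ({n} : Set G)) := cent_conj g n

theorem o2_cent_cj (g n : G) : o2 (centralizer ({g * n * g⁻¹} : Set G)) = cj g (o2 (centralizer ({n} : Set G))) :=
  o2_cent_conj g n

variable {S : Sylow 2 G}

/-- the conjugate labels -/
theorem exists_M (M : SymK (S : Subgroup G) P V ⊥ k m) (g : G) :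
    ∃ M' : SymK ((sy g S : Sylow 2 G) : Subgroup G) (cj g P) (cj g V) ⊥ k m,
      ∀ v p, E M' (g * v * g⁻¹) p = E M v p := by
  obtain ⟨M', hM'⟩ := exists_castM (sy_coe g S).symm (Subgroup.map_bot _ : cj g (⊥ : Subgroup G) = ⊥) (SymK.cj M g)
  refine ⟨M', fun v p => ?_⟩
  unfold E
  rw [hM']
  change M.e (g⁻¹ * (g * v * g⁻¹) * g) p.1 p.2 = _
  congr 2
  group

variable {M : SymK (S : Subgroup G) P V ⊥ k m} {g : G}
  {M' : SymK ((sy g S : Sylow 2 G) : Subgroup G) (cj g P) (cj g V) ⊥ k m}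

theorem amb_cj (hA : Amb (S : Subgroup G) P V) (g : G) :
    Amb ((sy g S : Sylow 2 G) : Subgroup G) (cj g P) (cj g V) where
  TH := by rw [sy_coe]; exact cj_mono g hA.TH
  VT := by rw [sy_coe]; exact cj_mono g hA.VT
  HV := by rw [← cj_normalizer]; exact cj_mono g hA.HV
  comm := by
    intro a' ha' b' hb'
    obtain ⟨a, ha, rfl⟩ := exists_of_cj ha'
    obtain ⟨b, hb, rfl⟩ := exists_of_cj hb'
    calc g * a * g⁻¹ * (g * b * g⁻¹) = g * (a * b) * g⁻¹ := by group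
      _ = g * (b * a) * g⁻¹ := by rw [hA.comm a ha b hb]
      _ = g * b * g⁻¹ * (g * a * g⁻¹) := by group
  sq := by
    intro a' ha'
    obtain ⟨a, ha, rfl⟩ := exists_of_cj ha'
    rw [conj_pow, hA.sq a ha]
    group
  zc := by rw [sy_coe, zc_cj']; exact cj_mono g hA.zc

theorem pr_cj (hE : ∀ v p, E M' (g * v * g⁻¹) p = E M v p) {p q : Pt k m} (hpq : p.1 = q.1) :
    pr M' p q = g * pr M p q * g⁻¹ := by
  refine Half.SymA.inj M' (pr_mem M' _ _) (mem_cj' (pr_mem M _ _)) fun r => ?_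
  rw [hE, E_pr M' hpq, E_pr M hpq]

theorem pp_cj (hA : Amb (S : Subgroup G) P V) (hm : 1 ≤ m) (hE : ∀ v p, E M' (g * v * g⁻¹) p = E M v p) {x : G}
    (hx : x ∈ P) : pp M' (g * x * g⁻¹) = pp M x := by
  refine pp_eq (amb_cj hA g) hm (mem_cj' hx) fun v' hv' p => ?_
  obtain ⟨v, hv, rfl⟩ := exists_of_cj hv'
  have e : g * x * g⁻¹ * (g * v * g⁻¹) * (g * x * g⁻¹)⁻¹ = g * (x * v * x⁻¹) * g⁻¹ := by group
  rw [e, hE, hE]
  exact mv_pp (M := M) hx v hv p

theorem sit_cj (h : Sit S P V M) (g : G) (M' : SymK ((sy g S : Sylow 2 G) : Subgroup G) (cj g P) (cj g V) ⊥ k m) :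
    Sit (sy g S) (cj g P) (cj g V) M' where
  amb := amb_cj h.amb g
  hm := h.hm
  hk := h.hk
  VZ := by rw [pCore_cj, zc_cj']; exact cj_mono g h.VZ
  Q_eq := by rw [pCore_cj, h.Q_eq, cj_inf, cj_centralizer, sy_coe]
  cQ := by rw [pCore_cj, ← cj_centralizer]; exact cj_mono g h.cQ
  cZ := by rw [pCore_cj, zc_cj', ← cj_centralizer, ← cj_centralizer, ← cj_inf]; exact cj_mono g h.cZ

theorem fours_cj (h : Sit S P V M) (hE : ∀ v p, E M' (g * v * g⁻¹) p = E M v p) {μ ν : Equiv.Perm (Pt k m)}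
    (F : Fours M μ ν) : Fours M' μ ν := by
  have key : ∀ s ∈ ((sy g S : Sylow 2 G) : Subgroup G), ∃ t ∈ (S : Subgroup G), pp M' s = pp M t := by
    intro s hs'
    rw [sy_coe] at hs'
    obtain ⟨t, ht, rfl⟩ := exists_of_cj hs'
    exact ⟨t, ht, pp_cj h.amb h.hm1 hE (h.SP ht)⟩
  exact
  { F with
    meqv := fun s hs p => by
      obtain ⟨t, ht, h1⟩ := key s hs
      rw [h1]; exact F.meqv t ht p
    neqv := fun s hs p => by
      obtain ⟨t, ht, h1⟩ := key s hs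
      rw [h1]; exact F.neqv t ht p }

variable [Finite G]

theorem sn_cj (h : SN S P V M) (hE : ∀ v p, E M' (g * v * g⁻¹) p = E M v p) :
    SN (sy g S) (cj g P) (cj g V) M' :=
  { sit_cj h.toSit g M' with
    c2 := h.c2
    zV := by rw [sy_coe, zc_cj']; exact cj_mono g h.zV
    QP := fun p q hpq hne => by
      rw [pr_cj hE hpq]
      change o2 (centralizer ({g * pr M p q * g⁻¹} : Set G)) ≤ _
      rw [o2_cent_cj]
      exact cj_mono g (h.QP p q hpq hne)
    Qpp := fun p q hpq hne x' hx' => by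
      rw [pr_cj hE hpq] at hx'
      change x' ∈ o2 (centralizer ({g * pr M p q * g⁻¹} : Set G)) at hx'
      rw [o2_cent_cj] at hx'
      obtain ⟨x, hx, rfl⟩ := exists_of_cj hx'
      rw [pp_cj h.amb h.hm1 hE (h.QP p q hpq hne hx)]
      exact h.Qpp p q hpq hne x hx
    VQ := fun p q hpq hne => by
      rw [pr_cj hE hpq]
      change _ ≤ o2 (centralizer ({g * pr M p q * g⁻¹} : Set G))
      rw [o2_cent_cj]
      exact cj_mono g (h.VQ p q hpq hne)
    par := fun p q hpq hne => by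
      obtain ⟨w, hw, h1⟩ := h.par p q hpq hne
      refine ⟨g * w * g⁻¹, ?_, ?_⟩
      · rw [pr_cj hE hpq]
        exact KK_conj hw
      · have hwP : w ∈ P := h.QP p q hpq hne (h.KK_le hpq hne hw)
        rw [pp_cj h.amb h.hm1 hE hwP, h1] }

/-- **The conjugate situation.** -/
theorem exists_cj (h : SN S P V M) {μ ν : Equiv.Perm (Pt k m)} (F : Fours M μ ν) (g : G) :
    ∃ M' : SymK ((sy g S : Sylow 2 G) : Subgroup G) (cj g P) (cj g V) ⊥ k m,
      SN (sy g S) (cj g P) (cj g V) M' ∧ Fours M' μ ν ∧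
        ∀ p q : Pt k m, p.1 = q.1 → pr M' p q = g * pr M p q * g⁻¹ := by
  obtain ⟨M', hE⟩ := exists_M M g
  exact ⟨M', sn_cj h hE, fours_cj h.toSit hE F, fun p q hpq => pr_cj hE hpq⟩

end Cfsg.Agent.Omega.IId.SwB.Mixed
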