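import Cfsg.Agent.Omega.IId.SymWr.Pr

/-!
# II.d, `SwBig`: the index of the centraliser of an `S`-duad (for the mixed case, helper142 (D))

`SymWr.Sit S P V M`, `F : Fours M μ ν`, `x.2 ≠ 0`:

* `relIndex_stab_S` : `|S : S_x| = k * 2 ^ m`;
* `relIndex_tn` : `|S : C_S(pr x (μ x))| = k * 2 ^ (m - 1)`;
* `card_S` : `|S| = k * 2 ^ (m - 1) * |C_S(pr x (μ x))|`.
-/

set_option autoImplicit false

namespace Cfsg.Agent.Omega.IId.SwB

open Cfsg.Agent.Omega.IId.SymWr
open Subgroup Pointwise Cfsg Cfsg.Agent.ZN Cfsg.Agent.Omega.MinPar Cfsg.Agent.Omega.FFThm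
open Cfsg.Agent.Omega.Half.SymA (Pt E Mv pm)

universe u

variable {G : Type u} [Group G] [Finite G] {P V : Subgroup G} {k m : ℕ} {S : Sylow 2 G}
  {M : SymK (S : Subgroup G) P V ⊥ k m}

/-- the number of nonzero points -/
theorem ncard_ne_zero (k m : ℕ) : {q : Pt k m | q.2 ≠ 0}.ncard = k * 2 ^ m := by
  have h1 : {q : Pt k m | q.2 ≠ 0} =
      ((Finset.univ ×ˢ (Finset.univ.erase 0) : Finset (Fin k × Fin (2 ^ m + 1))) : Set _) := by
    ext q
    simp
  rw [h1, Set.ncard_coe_finset, Finset.card_product, Finset.card_univ, Fintype.card_fin,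
    Finset.card_erase_of_mem (Finset.mem_univ _), Finset.card_univ, Fintype.card_fin]
  rfl

theorem relIndex_stab_S (h : Sit S P V M) {x : Pt k m} (hx : x.2 ≠ 0) :
    (stab h x).relIndex (S : Subgroup G) = k * 2 ^ m := by
  let f : (S : Subgroup G) →* Equiv.Perm (Pt k m) :=
    { toFun := fun s => pp M s
      map_one' := h.one
      map_mul' := fun a b => h.mul (h.SP a.2) (h.SP b.2) }
  let _ : MulAction (S : Subgroup G) (Pt k m) := MulAction.compHom _ f
  have hsm : ∀ (s : (S : Subgroup G)) (y : Pt k m), s • y = pp M s y := fun _ _ => rfl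
  have h1 : (stab h x).subgroupOf (S : Subgroup G) = MulAction.stabilizer (S : Subgroup G) x := by
    ext s
    rw [mem_subgroupOf, MulAction.mem_stabilizer_iff, hsm, mem_stab]
    exact ⟨fun h1 => h1.2, fun h1 => ⟨s.2, h1⟩⟩
  rw [relIndex, h1, MulAction.index_stabilizer]
  have h2 : MulAction.orbit (S : Subgroup G) x = {q : Pt k m | q.2 ≠ 0} := by
    ext q
    constructor
    · rintro ⟨s, rfl⟩
      exact fun h0 => hx ((h.snd s.2).1 h0)
    · intro hq
      obtain ⟨s, hs, h3⟩ := h.trans (p := x) (q := q) hx hq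
      exact ⟨⟨s, hs⟩, h3⟩
  rw [h2, ncard_ne_zero]

variable {μ ν : Equiv.Perm (Pt k m)}

omit [Finite G] in
theorem mem_tn (h : Sit S P V M) (F : Fours M μ ν) {x : Pt k m} (hx : x.2 ≠ 0) {s : G} (hs : s ∈ (S : Subgroup G)) :
    s ∈ centralizer ({pr M x (μ x)} : Set G) ↔ pp M s x = x ∨ pp M s x = μ x := by
  have hμ : x.1 = (μ x).1 := (F.mfst x).symm
  rw [mem_centralizer_singleton_iff]
  constructor
  · intro h1
    have h2 := (h.comm_iff (h.SP hs) (pr_mem M x (μ x))).1 h1 x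
    rw [E_pr_left M hμ (F.mne x hx).symm] at h2
    by_contra h3
    push Not at h3
    rw [E_pr_of_ne M hμ h3.1 h3.2] at h2
    exact zero_ne_one h2
  · intro h1
    refine h.comm_pr (h.SP hs) hμ ?_
    rcases h1 with h1 | h1
    · exact Or.inl ⟨h1, by rw [F.meqv s hs, h1]⟩
    · exact Or.inr ⟨h1, by rw [F.meqv s hs, h1, F.msq]⟩

theorem relIndex_stab_tn (h : Sit S P V M) (F : Fours M μ ν) {x : Pt k m} (hx : x.2 ≠ 0) :
    (stab h x).relIndex ((S : Subgroup G) ⊓ centralizer ({pr M x (μ x)} : Set G)) = 2 := by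
  set C : Subgroup G := (S : Subgroup G) ⊓ centralizer ({pr M x (μ x)} : Set G) with hC
  have hCS : ∀ s ∈ C, s ∈ (S : Subgroup G) := fun s hs => (mem_inf.1 hs).1
  let f : C →* Equiv.Perm (Pt k m) :=
    { toFun := fun s => pp M s
      map_one' := h.one
      map_mul' := fun a b => h.mul (h.SP (hCS _ a.2)) (h.SP (hCS _ b.2)) }
  let _ : MulAction C (Pt k m) := MulAction.compHom _ f
  have hsm : ∀ (s : C) (y : Pt k m), s • y = pp M s y := fun _ _ => rfl
  have h1 : (stab h x).subgroupOf C = MulAction.stabilizer C x := by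
    ext s
    rw [mem_subgroupOf, MulAction.mem_stabilizer_iff, hsm, mem_stab]
    exact ⟨fun h1 => h1.2, fun h1 => ⟨hCS _ s.2, h1⟩⟩
  rw [relIndex, h1, MulAction.index_stabilizer]
  have h2 : MulAction.orbit C x = {x, μ x} := by
    ext q
    rw [Set.mem_insert_iff, Set.mem_singleton_iff]
    constructor
    · rintro ⟨s, rfl⟩
      exact (mem_tn h F hx (hCS _ s.2)).1 (mem_inf.1 s.2).2
    · intro hq
      have hq0 : q.2 ≠ 0 := by
        rcases hq with rfl | rfl
        · exact hx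
        · exact fun h0 => hx (F.mnz.1 h0)
      obtain ⟨s, hs, h3⟩ := h.trans (p := x) (q := q) hx hq0
      refine ⟨⟨s, mem_inf.2 ⟨hs, (mem_tn h F hx hs).2 ?_⟩⟩, h3⟩
      rwa [h3]
  rw [h2, Set.ncard_pair (F.mne x hx).symm]

/-- `|S : C_S(pr x (μ x))| = k * 2 ^ (m - 1)` -/
theorem relIndex_tn (h : Sit S P V M) (F : Fours M μ ν) {x : Pt k m} (hx : x.2 ≠ 0) :
    ((S : Subgroup G) ⊓ centralizer ({pr M x (μ x)} : Set G)).relIndex (S : Subgroup G) = k * 2 ^ (m - 1) := by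
  have hle : stab h x ≤ (S : Subgroup G) ⊓ centralizer ({pr M x (μ x)} : Set G) := fun s hs =>
    mem_inf.2 ⟨hs.1, (mem_tn h F hx hs.1).2 (Or.inl hs.2)⟩
  have h1 := relIndex_mul_relIndex _ _ _ hle (inf_le_left : (S : Subgroup G) ⊓ centralizer ({pr M x (μ x)} : Set G) ≤ S)
  rw [relIndex_stab_tn h F hx, relIndex_stab_S h hx] at h1
  obtain ⟨n, rfl⟩ : ∃ n, m = n + 1 := ⟨m - 1, by have := h.hm; omega⟩
  rw [Nat.add_sub_cancel]
  rw [pow_succ] at h1
  refine Nat.eq_of_mul_eq_mul_left (by norm_num : 0 < 2) ?_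
  rw [h1]
  ring

/-- `|S| = k * 2 ^ (m - 1) * |C_S(pr x (μ x))|` -/
theorem card_S (h : Sit S P V M) (F : Fours M μ ν) {x : Pt k m} (hx : x.2 ≠ 0) :
    Nat.card (S : Subgroup G) =
      k * 2 ^ (m - 1) * Nat.card ((S : Subgroup G) ⊓ centralizer ({pr M x (μ x)} : Set G) : Subgroup G) := by
  rw [← relIndex_tn h F hx, mul_comm]
  exact (card_mul_relIndex inf_le_left).symm

end Cfsg.Agent.Omega.IId.SwB
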