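/-
Copyright (c) 2026 CFSG team. Released under Apache 2.0 license.
Authors: helper157 (#20066), helper107 (LEMMA TWO, #14387), typed by helper897
-/
import Cfsg.Agent.Omega.TTn.TwoTypes

/-!
# The mixed partner of type `S_{2^m+1}`: reduction to ONE module, abstract form (project OMEGA, II.d, SwBig)

`V₀` (the module on one side), `n, a, c ∈ V₀`, `Q = O₂(C_G(n))`, `R = O₂(C_G(V₀))`. On the `V₀`-side: `V₀ ≤ Q`,
`x ∈ N(V₀)` maps `n` to `a`; `g ∈ N(V₀)` maps `a` to `c` and `n` to `a`; `w ∈ N(V₀) ∩ Q` with `[Q, w] ≤ ⟨n⟩` moves `c`.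
On the other side: `[Q, a] = 1`, `b = a ^ y` with `y ∈ C_G(n)`, `[b, R] ≤ ⟨a⟩` and `[b, r] = a` for one
`r = (v ^ h) ^ x`, `v ∈ V₀`, `h ∈ C_G(n)`.

THEOREM (`Cf.not_comm`): `W = ⟨V₀ ^ C_G(n)⟩` is not abelian. Hence (`Cf.exists_one`) `[V₀, V₀ ^ k] ≠ 1` for some
`k ∈ C_G(n)`.

Proof. Suppose `W` is abelian. `W ^ x ≤ R` (the condition is symmetric under `N(V₀)`), `U = ⟨a ^ C_G(n)⟩ ≤ Z(Q) ∩ R`,
`b ∈ U`, so `[b, R] = ⟨a⟩` and `f = b ^ g` has `[f, R] = ⟨c⟩`. `f` normalises `U ≤ R`: `[f, U] ≤ U ∩ ⟨c⟩ = 1` (`w ∈ Q`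
moves `c`). So `f ∈ O₂(C_G(a)) ∩ C(U)`, a normal 2-subgroup of `C_{C(n)}(U) ≤ C_G(a)`: `f ∈ Q`. Then `f ^ w ∈ f⟨n⟩` and
`⟨c⟩ = [f, R] = [f ^ w, R] = ⟨c ^ w⟩`, a contradiction.
-/

set_option autoImplicit false

namespace Cfsg.Agent.Omega.IId.SwB.Mixed

open Subgroup Cfsg Cfsg.Agent.ZN Cfsg.Agent.ZN.ChoiceBase Cfsg.Agent.Omega.TTn.TwoTypes
open Cfsg.Agent.Omega.S5.TT (o2_conj)
open Cfsg.Agent.MinSimple.VModule (o2_isPGroup le_o2 o2_le le_normalizer_o2)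

universe u

variable {G : Type u} [Group G]

/-- The configuration of LEMMA TWO. -/
structure Cf (V : Subgroup G) (n a c x y g w h v : G) : Prop where
  nV : n ∈ V
  aV : a ∈ V
  vQ : V ≤ o2 (centralizer ({n} : Set G))
  aQ : ∀ q ∈ o2 (centralizer ({n} : Set G)), q * a = a * q
  xV : x ∈ normalizer (V : Set G)
  xn : x * n * x⁻¹ = a
  yn : y * n = n * y
  bR : ∀ r ∈ o2 (centralizer (V : Set G)), r * (y * a * y⁻¹) * r⁻¹ * (y * a * y⁻¹)⁻¹ = 1 ∨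
    r * (y * a * y⁻¹) * r⁻¹ * (y * a * y⁻¹)⁻¹ = a
  hn : h * n = n * h
  vV : v ∈ V
  br : (x * (h * v * h⁻¹) * x⁻¹) * (y * a * y⁻¹) * (x * (h * v * h⁻¹) * x⁻¹)⁻¹ * (y * a * y⁻¹)⁻¹ = a
  gV : g ∈ normalizer (V : Set G)
  ga : g * a * g⁻¹ = c
  gn : g * n * g⁻¹ = a
  wV : w ∈ normalizer (V : Set G)
  wQ : w ∈ o2 (centralizer ({n} : Set G))
  wn : ∀ q ∈ o2 (centralizer ({n} : Set G)), w * q * w⁻¹ * q⁻¹ = 1 ∨ w * q * w⁻¹ * q⁻¹ = n
  wc : w * c * w⁻¹ ≠ c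

namespace Cf

variable {V : Subgroup G} {n a c x y g w h v : G} (t : Cf V n a c x y g w h v)
include t

/-- LEMMA TWO. -/
theorem not_comm [Finite G] : ¬ ∀ u ∈ W V n, ∀ v ∈ W V n, u * v = v * u := by
  intro hab
  set N := centralizer ({n} : Set G) with hN
  set Q := o2 N with hQ
  set Qa := o2 (centralizer ({a} : Set G)) with hQa
  set R := o2 (centralizer (V : Set G)) with hR
  set b := y * a * y⁻¹ with hb
  have hna : cj x Q = Qa := by rw [hQ, hN, o2_conj x n, t.xn]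
  have hCn : ∀ g ∈ centralizer (V : Set G), g * n = n * g := fun g hg =>
    (mem_centralizer_iff.1 hg n t.nV).symm
  have hCa : ∀ g ∈ centralizer (V : Set G), g * a = a * g := fun g hg =>
    (mem_centralizer_iff.1 hg a t.aV).symm
  have hVa : V ≤ Qa := by
    rw [← hna]
    intro v hv
    rw [mem_cj]
    refine t.vQ ?_
    have := (mem_normalizer_iff.1 (inv_mem t.xV) v).1 hv
    rwa [inv_inv] at this
  -- `W V a ≤ R`
  have hWa : W V a ≤ R := by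
    have h1 : ∀ w ∈ W V a, x⁻¹ * w * x ∈ W V n := by
      intro w hw
      have h2 := W_conj (V' := V) (l := x⁻¹) (fun v hv =>
        (mem_normalizer_iff.1 (inv_mem t.xV) v).1 hv) hw
      have h3 : x⁻¹ * a * x⁻¹⁻¹ = n := by rw [← t.xn]; group
      rw [h3, inv_inv] at h2
      exact h2
    refine le_o2 ?_ ?_ ?_
    · intro w hw
      rw [mem_centralizer_iff]
      intro v hv
      have hv' : x⁻¹ * v * x ∈ V := by
        have := (mem_normalizer_iff.1 (inv_mem t.xV) v).1 hv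
        rwa [inv_inv] at this
      have h2 := hab _ (le_W _ _ hv') _ (h1 w hw)
      calc v * w = x * ((x⁻¹ * v * x) * (x⁻¹ * w * x)) * x⁻¹ := by group
        _ = x * ((x⁻¹ * w * x) * (x⁻¹ * v * x)) * x⁻¹ := by rw [h2]
        _ = w * v := by group
    · refine (o2_isPGroup (centralizer ({a} : Set G))).to_le (W_le hVa fun g hg d hd => ?_)
      exact (mem_normalizer_iff.1 (le_normalizer_o2 _ (mem_C.2 hg)) d).1 hd
    · intro g hg
      refine mem_normalizer_of_cj_le ?_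
      rintro _ ⟨w, hw, rfl⟩
      exact W_norm (hCa g hg) hw
  -- an element of `R` moving `b`
  obtain ⟨r₀, hr₀, hb₀⟩ : ∃ r ∈ R, r * b * r⁻¹ * b⁻¹ = a := by
    have hw : h * v * h⁻¹ ∈ W V n := mem_W t.hn t.vV
    have hw' : x * (h * v * h⁻¹) * x⁻¹ ∈ W V a := by
      have h2 := W_conj (V' := V) (l := x) (fun v hv => (mem_normalizer_iff.1 t.xV v).1 hv) hw
      rwa [t.xn] at h2
    exact ⟨_, hWa hw', t.br⟩
  have hbR : ∀ r ∈ R, r * b * r⁻¹ * b⁻¹ = 1 ∨ r * b * r⁻¹ * b⁻¹ = a := t.bR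
  have haVQ : a ∈ Q := t.vQ t.aV
  -- `U = ⟨a^N⟩`
  set U := W (zpowers a) n with hU
  have haU : a ∈ U := le_W _ _ (mem_zpowers a)
  have hUQ : U ≤ Q := W_le ((zpowers_le).2 haVQ) fun g hg d hd =>
    (mem_normalizer_iff.1 (le_normalizer_o2 _ (mem_C.2 hg)) d).1 hd
  have hUC : U ≤ centralizer (Q : Set G) := by
    refine W_le ((zpowers_le).2 (mem_centralizer_iff.2 fun q hq => t.aQ q hq)) fun g hg d hd => ?_
    rw [mem_centralizer_iff] at hd ⊢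
    intro q hq
    have h1 : g⁻¹ * q * g ∈ Q := by
      have := (mem_normalizer_iff.1 (le_normalizer_o2 N (inv_mem (mem_C.2 hg))) q).1 hq
      rwa [inv_inv] at this
    have h2 := hd _ h1
    calc q * (g * d * g⁻¹) = g * ((g⁻¹ * q * g) * d) * g⁻¹ := by group
      _ = g * (d * (g⁻¹ * q * g)) * g⁻¹ := by rw [h2]
      _ = g * d * g⁻¹ * q := by group
  have hUR : U ≤ R := by
    refine le_o2 ?_ ((o2_isPGroup N).to_le hUQ) ?_
    · intro u hu
      rw [mem_centralizer_iff]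
      intro v hv
      exact mem_centralizer_iff.1 (hUC hu) v (t.vQ hv)
    · intro g hg
      refine mem_normalizer_of_cj_le ?_
      rintro _ ⟨w, hw, rfl⟩
      exact W_norm (hCn g hg) hw
  have hbU : b ∈ U := mem_W t.yn (mem_zpowers a)
  have hbC : b ∈ centralizer (V : Set G) := by
    rw [mem_centralizer_iff]
    intro v hv
    exact mem_centralizer_iff.1 (hUC hbU) v (t.vQ hv)
  -- `f = b ^ g`
  have hgR : ∀ r ∈ R, g * r * g⁻¹ ∈ R := fun r hr => conj_R t.gV hr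
  have hgR' : ∀ r ∈ R, g⁻¹ * r * g ∈ R := fun r hr => by
    have := conj_R (inv_mem t.gV) hr
    rwa [inv_inv] at this
  set f := g * b * g⁻¹ with hf
  have hfR : ∀ r ∈ R, r * f * r⁻¹ * f⁻¹ = 1 ∨ r * f * r⁻¹ * f⁻¹ = c := by
    intro r hr
    have h1 : r * f * r⁻¹ * f⁻¹ = g * ((g⁻¹ * r * g) * b * (g⁻¹ * r * g)⁻¹ * b⁻¹) * g⁻¹ := by
      rw [hf]; group
    rcases hbR _ (hgR' r hr) with h2 | h2
    · left; rw [h1, h2]; group
    · right; rw [h1, h2, t.ga]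
  have hfr : (g * r₀ * g⁻¹) * f * (g * r₀ * g⁻¹)⁻¹ * f⁻¹ = c := by
    have h1 : (g * r₀ * g⁻¹) * f * (g * r₀ * g⁻¹)⁻¹ * f⁻¹ = g * (r₀ * b * r₀⁻¹ * b⁻¹) * g⁻¹ := by
      rw [hf]; group
    rw [h1, hb₀, t.ga]
  have hfC : f ∈ centralizer (V : Set G) := by
    rw [mem_centralizer_iff] at hbC ⊢
    intro v hv
    have hv' : g⁻¹ * v * g ∈ V := by
      have := (mem_normalizer_iff.1 (inv_mem t.gV) v).1 hv
      rwa [inv_inv] at this
    have h1 := hbC _ hv'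
    calc v * f = g * ((g⁻¹ * v * g) * b) * g⁻¹ := by rw [hf]; group
      _ = g * (b * (g⁻¹ * v * g)) * g⁻¹ := by rw [h1]
      _ = f * v := by rw [hf]; group
  have hfQa : f ∈ Qa := by
    have h1 : cj g Q = Qa := by rw [hQ, hN, o2_conj g n, t.gn]
    rw [← h1]
    exact ⟨_, hUQ hbU, rfl⟩
  -- `c ∉ U`
  have hcU : c ∉ U := by
    intro h1
    have h2 := mem_centralizer_iff.1 (hUC h1) w t.wQ
    exact t.wc (by rw [h2, mul_inv_cancel_right])
  -- `f` centralises `U`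
  have hfU : ∀ u ∈ U, u * f = f * u := by
    intro u hu
    have h1 : u * f * u⁻¹ * f⁻¹ ∈ U := by
      have h2 : f * u⁻¹ * f⁻¹ ∈ U := W_norm (hCn f hfC) (inv_mem hu)
      have h3 : u * f * u⁻¹ * f⁻¹ = u * (f * u⁻¹ * f⁻¹) := by group
      rw [h3]; exact mul_mem hu h2
    rcases hfR u (hUR hu) with h2 | h2
    · exact eq_of_mul_inv_eq_one (by rw [← h2]; group)
    · rw [h2] at h1
      exact absurd h1 hcU
  -- `f ∈ Q`
  have hfQ : f ∈ Q := by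
    set CN := N ⊓ centralizer (U : Set G) with hCN
    have hCNa : CN ≤ centralizer ({a} : Set G) := fun y hy =>
      mem_C.2 (mem_centralizer_iff.1 (mem_inf.1 hy).2 a haU).symm
    have h1 : Qa ⊓ CN ≤ o2 CN := by
      refine le_o2 inf_le_right ((o2_isPGroup _).to_le inf_le_left) ?_
      intro y hy
      refine mem_normalizer_of_cj_le ?_
      rintro _ ⟨z, hz, rfl⟩
      exact mem_inf.2 ⟨(mem_normalizer_iff.1 (le_normalizer_o2 _ (hCNa hy)) z).1 (mem_inf.1 hz).1,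
        mul_mem (mul_mem hy (mem_inf.1 hz).2) (inv_mem hy)⟩
    have h2 : o2 CN ≤ Q := by
      refine le_o2 ((o2_le _).trans inf_le_left) (o2_isPGroup _) ?_
      intro y hy
      refine conj_o2 (mem_normalizer_of_cj_le ?_)
      rintro _ ⟨z, hz, rfl⟩
      refine mem_inf.2 ⟨mul_mem (mul_mem hy (mem_inf.1 hz).1) (inv_mem hy), ?_⟩
      rw [mem_centralizer_iff]
      intro u hu
      have h3 : y⁻¹ * u * y ∈ U := by
        have := W_norm (inv_comm (mem_C.1 hy)) hu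
        rwa [inv_inv] at this
      have h4 := mem_centralizer_iff.1 (mem_inf.1 hz).2 _ h3
      calc u * (y * z * y⁻¹) = y * ((y⁻¹ * u * y) * z) * y⁻¹ := by group
        _ = y * (z * (y⁻¹ * u * y)) * y⁻¹ := by rw [h4]
        _ = y * z * y⁻¹ * u := by group
    exact h2 (h1 (mem_inf.2 ⟨hfQa, mem_inf.2 ⟨mem_C.2 (hCn f hfC),
      mem_centralizer_iff.2 fun u hu => hfU u hu⟩⟩))
  -- the contradiction
  have hwf : w * f * w⁻¹ * f⁻¹ = 1 ∨ w * f * w⁻¹ * f⁻¹ = n := t.wn f hfQ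
  have hwR : ∀ r ∈ R, w * r * w⁻¹ ∈ R := fun r hr => conj_R t.wV hr
  set r' := w * (g * r₀ * g⁻¹) * w⁻¹ with hr'
  have hr'R : r' ∈ R := hwR _ (hgR _ hr₀)
  have h1 : r' * (w * f * w⁻¹) * r'⁻¹ * (w * f * w⁻¹)⁻¹ = w * c * w⁻¹ := by
    rw [← hfr, hr']; group
  have hr'n : r' * n = n * r' := hCn r' (o2_le _ hr'R)
  have h2 : r' * (w * f * w⁻¹) * r'⁻¹ * (w * f * w⁻¹)⁻¹ = r' * f * r'⁻¹ * f⁻¹ := by
    rcases hwf with h3 | h3
    · have h4 : w * f * w⁻¹ = f := mul_inv_eq_one.1 h3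
      rw [h4]
    · have h4 : w * f * w⁻¹ = n * f := by rw [← h3]; group
      have h5 : r' * (n * f) * r'⁻¹ * (n * f)⁻¹ = (r' * n) * f * r'⁻¹ * f⁻¹ * n⁻¹ := by group
      have h6 : f * n = n * f := hCn f hfC
      have h7 : n * (r' * f * r'⁻¹ * f⁻¹) * n⁻¹ = r' * f * r'⁻¹ * f⁻¹ := by
        have h8 : n * (r' * f * r'⁻¹ * f⁻¹) = (r' * f * r'⁻¹ * f⁻¹) * n := by
          have h9 : r'⁻¹ * n = n * r'⁻¹ := inv_comm hr'n
          have h10 : f⁻¹ * n = n * f⁻¹ := inv_comm h6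
          calc n * (r' * f * r'⁻¹ * f⁻¹) = (n * r') * f * r'⁻¹ * f⁻¹ := by group
            _ = r' * (n * f) * r'⁻¹ * f⁻¹ := by rw [← hr'n]; group
            _ = r' * f * (n * r'⁻¹) * f⁻¹ := by rw [← h6]; group
            _ = r' * f * r'⁻¹ * (n * f⁻¹) := by rw [← h9]; group
            _ = (r' * f * r'⁻¹ * f⁻¹) * n := by rw [← h10]; group
        rw [h8, mul_inv_cancel_right]
      calc r' * (w * f * w⁻¹) * r'⁻¹ * (w * f * w⁻¹)⁻¹ = (r' * n) * f * r'⁻¹ * f⁻¹ * n⁻¹ := by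
            rw [h4, h5]
        _ = n * (r' * f * r'⁻¹ * f⁻¹) * n⁻¹ := by rw [hr'n]; group
        _ = _ := h7
  have h3 := hfR r' hr'R
  rw [← h2, h1] at h3
  rcases h3 with h3 | h3
  · refine t.wc ?_
    have h4 : c = 1 := by
      have h5 : c = w⁻¹ * (w * c * w⁻¹) * w := by group
      rw [h5, h3]; group
    rw [h4, mul_one, mul_inv_cancel]
  · exact t.wc h3

/-- A non-commuting pair of conjugates of the ONE subgroup `V`, with the same `n`. -/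
theorem exists_one [Finite G] : ∃ k, k * n = n * k ∧ ∃ v ∈ V, ∃ u ∈ V, (k * v * k⁻¹) * u ≠ u * (k * v * k⁻¹) := by
  by_contra hcon
  push Not at hcon
  refine t.not_comm ?_
  have gen : ∀ y ∈ {y | ∃ g, g * n = n * g ∧ ∃ v ∈ V, y = g * v * g⁻¹},
      ∀ z ∈ {y | ∃ g, g * n = n * g ∧ ∃ v ∈ V, y = g * v * g⁻¹}, y * z = z * y := by
    rintro _ ⟨g, hg, v, hv, rfl⟩ _ ⟨k, hk, w, hw, rfl⟩
    have h0 : (k⁻¹ * g) * n = n * (k⁻¹ * g) := by
      rw [mul_assoc, hg, ← mul_assoc, inv_comm hk, mul_assoc]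
    have h1 := hcon _ h0 v hv w hw
    calc g * v * g⁻¹ * (k * w * k⁻¹) = k * ((k⁻¹ * g * v * (k⁻¹ * g)⁻¹) * w) * k⁻¹ := by group
      _ = k * (w * (k⁻¹ * g * v * (k⁻¹ * g)⁻¹)) * k⁻¹ := by rw [h1]
      _ = k * w * k⁻¹ * (g * v * g⁻¹) := by group
  intro y hy z hz
  have h1 : W V n ≤ centralizer ((W V n : Subgroup G) : Set G) := by
    conv_rhs => rw [W, centralizer_closure]
    rw [W, closure_le]
    intro a ha
    exact mem_centralizer_iff.2 fun b hb => gen b hb a ha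
  exact (mem_centralizer_iff.1 (h1 hy) z hz).symm

end Cf

end Cfsg.Agent.Omega.IId.SwB.Mixed
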