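/-
Copyright (c) 2026 CFSG team. Released under Apache 2.0 license.
Authors: helper157 (#20066), helper334 (#20345 (III)), typed by helper897
-/
import Cfsg.Agent.Omega.IId.SwB.Mixed

/-!
# The mixed partner over the duads of ONE module (project OMEGA, II.d, SwBig)

`Dd V d` : `V` is a subgroup with duads `d p q`, `p.1 = q.1` (`p, q : Fin k × Fin (2 ^ m + 1)`), `m ≥ 2`; all
permutations inside the blocks are induced by `N_G(V)`; (H1) `O₂(C_G(d p q)) ≤ N_G(V)` contains `V` and acts on `V`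
inside `⟨(p q)⟩`, with `[V, O₂(C_G(d p q))] ≤ ⟨d p q⟩`. `Ds S V d` : moreover `S ≤ N_G(V)` fixes the letters `(i, 0)`.

THEOREM (`Dd.exists_one`): let `n = {p, q}`, `a = {r, s}` be disjoint duads in one block of `V`, `V'` a subgroup with
`V' ≤ Q = O₂(C_G(n))`, `[Q, V'] ≤ ⟨n⟩`, `x ∈ N(V) ∩ N(V')` with `n ^ x = a`, `b = a ^ y ∈ V'`, `y ∈ C_G(n)`,
`[b, O₂(C_G(V))] ≤ ⟨a⟩`, and let `t v t⁻¹`, `v ∈ V`, `t ∈ C_G(n)`, not commute with `x⁻¹ b x`. Then `[V, V ^ k] ≠ 1` for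
some `k ∈ C_G(n)`.

`Pd S' V' n a b` : the partner side in abstract form (`Ds.pd` : a module with duads); `Dd.exists_pd`, `Ds.exists_one` :
the conclusion for a partner side `Pd`, resp. for two modules `V`, `V'` with the same duads `n`, `a`, when
`O₂(C_G(V)) ≤ S'`.
-/

set_option autoImplicit false

namespace Cfsg.Agent.Omega.IId.SwB.Mixed

open Subgroup Cfsg Cfsg.Agent.ZN Cfsg.Agent.ZN.ChoiceBase
open Cfsg.Agent.Omega.TTn.TwoTypes (inv_comm mem_C)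
open Cfsg.Agent.Omega.S5.TT (o2_conj)
open Cfsg.Agent.MinSimple.VModule (o2_isPGroup le_o2 o2_le le_normalizer_o2)

universe u

variable {G : Type u} [Group G]

/-- the letters -/
abbrev Pt (k m : ℕ) : Type := Fin k × Fin (2 ^ m + 1)

/-- Duads. -/
structure Dd (V : Subgroup G) {k m : ℕ} (d : Pt k m → Pt k m → G) : Prop where
  m2 : 2 ≤ m
  mem : ∀ p q, d p q ∈ V
  comm : ∀ p q, p.1 = q.1 → d p q = d q p
  mul : ∀ p q r, p.1 = q.1 → q.1 = r.1 → d p q * d q r = d p r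
  sq : ∀ p q, d p q * d p q = 1
  inj : ∀ p q r s, p.1 = q.1 → r.1 = s.1 → p ≠ q → d p q = d r s → (p = r ∧ q = s) ∨ (p = s ∧ q = r)
  lift : ∀ π : Equiv.Perm (Pt k m), (∀ p, (π p).1 = p.1) →
    ∃ g ∈ normalizer (V : Set G), ∀ p q, p.1 = q.1 → g * d p q * g⁻¹ = d (π p) (π q)
  VQ : ∀ p q, p.1 = q.1 → p ≠ q → V ≤ o2 (centralizer ({d p q} : Set G))
  act : ∀ p q, p.1 = q.1 → p ≠ q → ∀ g ∈ o2 (centralizer ({d p q} : Set G)), g ∈ normalizer (V : Set G) ∧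
    ((∀ v ∈ V, g * v = v * g) ∨ ∀ r s, r.1 = s.1 → g * d r s * g⁻¹ = d (Equiv.swap p q r) (Equiv.swap p q s))
  cm : ∀ p q, p.1 = q.1 → p ≠ q → ∀ g ∈ o2 (centralizer ({d p q} : Set G)), ∀ v ∈ V,
    g * v * g⁻¹ * v⁻¹ = 1 ∨ g * v * g⁻¹ * v⁻¹ = d p q

/-- Duads with the Sylow 2-subgroup. -/
structure Ds (S V : Subgroup G) {k m : ℕ} (d : Pt k m → Pt k m → G) : Prop extends Dd V d where
  fix : ∀ g ∈ S, ∀ p q, p.1 = q.1 → p ≠ q → g * d p q = d p q * g →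
    g * d p (p.1, 0) * g⁻¹ = d p (p.1, 0) ∨ g * d p (p.1, 0) * g⁻¹ = d q (p.1, 0)

namespace Dd

theorem conjQ {n : G} {g e : G} (hg : g * n = n * g) (he : e ∈ o2 (centralizer ({n} : Set G))) :
    g * e * g⁻¹ ∈ o2 (centralizer ({n} : Set G)) :=
  (mem_normalizer_iff.1 (le_normalizer_o2 _ (mem_C.2 hg)) e).1 he

variable {V : Subgroup G} {k m : ℕ} {d : Pt k m → Pt k m → G} (D : Dd V d)

include D

theorem exists_fifth (p q r s : Pt k m) :
    ∃ e : Pt k m, p.1 = e.1 ∧ e ≠ p ∧ e ≠ q ∧ e ≠ r ∧ e ≠ s := by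
  obtain ⟨l, hl⟩ : ∃ l : Fin (2 ^ m + 1), l ∉ ({p.2, q.2, r.2, s.2} : Finset (Fin (2 ^ m + 1))) := by
    by_contra hc
    push Not at hc
    have h1 : (Finset.univ : Finset (Fin (2 ^ m + 1))).card ≤ 4 :=
      (Finset.card_le_card (fun z _ => hc z)).trans Finset.card_le_four
    rw [Finset.card_univ, Fintype.card_fin] at h1
    have h2 : 2 ^ 2 ≤ 2 ^ m := Nat.pow_le_pow_right (by norm_num) D.m2
    omega
  simp only [Finset.mem_insert, Finset.mem_singleton, not_or] at hl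
  exact ⟨(p.1, l), rfl, fun h => hl.1 (by rw [← h]), fun h => hl.2.1 (by rw [← h]),
    fun h => hl.2.2.1 (by rw [← h]), fun h => hl.2.2.2 (by rw [← h])⟩

omit D in
theorem swap_fst {z z' : Pt k m} (hz : z.1 = z'.1) (t : Pt k m) : (Equiv.swap z z' t).1 = t.1 := by
  by_cases e1 : t = z
  · rw [e1, Equiv.swap_apply_left, hz]
  by_cases e2 : t = z'
  · rw [e2, Equiv.swap_apply_right, hz]
  · rw [Equiv.swap_apply_of_ne_of_ne e1 e2]

/-- the element `g`: `{p, q} → {r, s} → {p, e}` -/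
theorem exists_g {p q r s e : Pt k m} (hpq : p.1 = q.1) (hpr : p.1 = r.1) (hps : p.1 = s.1) (he : p.1 = e.1)
    (pq : p ≠ q) (ps : p ≠ s) (qr : q ≠ r) (qs : q ≠ s) (rs : r ≠ s) (ep : e ≠ p) (eq : e ≠ q)
    (er : e ≠ r) (es : e ≠ s) :
    ∃ g ∈ normalizer (V : Set G), g * d p q * g⁻¹ = d r s ∧ g * d r s * g⁻¹ = d p e := by
  obtain ⟨g, hg, hgs⟩ := D.lift (Equiv.swap p r * (Equiv.swap q s * Equiv.swap s e)) (fun t => by
      rw [Equiv.Perm.mul_apply, Equiv.Perm.mul_apply, swap_fst hpr, swap_fst (hpq.symm.trans hps),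
        swap_fst (hps.symm.trans he)])
  refine ⟨g, hg, ?_, ?_⟩
  · rw [hgs p q hpq]
    simp only [Equiv.Perm.mul_apply]
    rw [Equiv.swap_apply_of_ne_of_ne ps ep.symm, Equiv.swap_apply_of_ne_of_ne pq ps, Equiv.swap_apply_left,
      Equiv.swap_apply_of_ne_of_ne qs eq.symm, Equiv.swap_apply_left, Equiv.swap_apply_of_ne_of_ne ps.symm rs.symm]
  · rw [hgs r s (hpr.symm.trans hps)]
    simp only [Equiv.Perm.mul_apply]
    rw [Equiv.swap_apply_of_ne_of_ne rs er.symm, Equiv.swap_apply_of_ne_of_ne qr.symm rs, Equiv.swap_apply_right,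
      Equiv.swap_apply_left, Equiv.swap_apply_of_ne_of_ne eq es, Equiv.swap_apply_of_ne_of_ne ep er]

variable [Finite G]

/-- **The mixed pair, one side with duads.** (first form) -/
theorem exists_one {p q r s : Pt k m} (hpq : p.1 = q.1) (hpr : p.1 = r.1) (hps : p.1 = s.1) (pq : p ≠ q)
    (pr : p ≠ r) (ps : p ≠ s) (qr : q ≠ r) (qs : q ≠ s) (rs : r ≠ s) {V' : Subgroup G}
    (vQ : V' ≤ o2 (centralizer ({d p q} : Set G)))
    (vc : ∀ g ∈ o2 (centralizer ({d p q} : Set G)), ∀ v ∈ V', g * v * g⁻¹ * v⁻¹ = 1 ∨ g * v * g⁻¹ * v⁻¹ = d p q)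
    {x y t v : G} (xV : x ∈ normalizer (V : Set G)) (xV' : x ∈ normalizer (V' : Set G))
    (xn : x * d p q * x⁻¹ = d r s) (yn : y * d p q = d p q * y) (bV : y * d r s * y⁻¹ ∈ V')
    (bR : ∀ g ∈ o2 (centralizer (V : Set G)), g * (y * d r s * y⁻¹) * g⁻¹ * (y * d r s * y⁻¹)⁻¹ = 1 ∨
      g * (y * d r s * y⁻¹) * g⁻¹ * (y * d r s * y⁻¹)⁻¹ = d r s)
    (tn : t * d p q = d p q * t) (hv : v ∈ V)
    (hne : t * v * t⁻¹ * (x⁻¹ * (y * d r s * y⁻¹) * x) ≠ x⁻¹ * (y * d r s * y⁻¹) * x * (t * v * t⁻¹)) :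
    ∃ k, k * d p q = d p q * k ∧ ∃ v ∈ V, ∃ u ∈ V, k * v * k⁻¹ * u ≠ u * (k * v * k⁻¹) := by
  set n := d p q with hn
  set a := d r s with ha
  set b := y * a * y⁻¹ with hb
  set b' := x⁻¹ * b * x with hb'
  have hbV' : b' ∈ V' := by
    have := (mem_normalizer_iff.1 (inv_mem xV') b).1 bV
    rwa [inv_inv] at this
  have hVQ := D.VQ p q hpq pq
  have hq : t * v * t⁻¹ ∈ o2 (centralizer ({n} : Set G)) := conjQ tn (hVQ hv)
  have hcomm : t * v * t⁻¹ * b' * (t * v * t⁻¹)⁻¹ * b'⁻¹ = n := by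
    refine (vc _ hq b' hbV').resolve_left fun h1 => hne ?_
    have h2 := mul_inv_eq_one.1 h1
    rwa [mul_inv_eq_iff_eq_mul] at h2
  obtain ⟨e, he, ep, eq, er, es⟩ := D.exists_fifth p q r s
  obtain ⟨g, hg, g1, g2⟩ := D.exists_g hpq hpr hps he pq ps qr qs rs ep eq er es
  have hw : t⁻¹ * b' * t ∈ o2 (centralizer ({n} : Set G)) := by
    have := conjQ (inv_comm tn) (vQ hbV')
    rwa [inv_inv] at this
  have hwne : ¬ ∀ v ∈ V, t⁻¹ * b' * t * v = v * (t⁻¹ * b' * t) := fun h1 => hne (by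
    calc t * v * t⁻¹ * b' = t * (v * (t⁻¹ * b' * t)) * t⁻¹ := by group
      _ = t * (t⁻¹ * b' * t * v) * t⁻¹ := by rw [h1 v hv]
      _ = b' * (t * v * t⁻¹) := by group)
  obtain ⟨hwN, hw2⟩ := D.act p q hpq pq _ hw
  have hws := hw2.resolve_left hwne
  have cf : Cf V n a (d p e) x y g (t⁻¹ * b' * t) t v :=
    { nV := D.mem _ _
      aV := D.mem _ _
      vQ := hVQ
      aQ := fun c hc => by
        rcases (D.act p q hpq pq c hc).2 with h1 | h1
        · exact h1 _ (D.mem _ _)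
        · have h2 := h1 r s (hpr.symm.trans hps)
          rw [Equiv.swap_apply_of_ne_of_ne pr.symm qr.symm, Equiv.swap_apply_of_ne_of_ne ps.symm qs.symm,
            mul_inv_eq_iff_eq_mul] at h2
          exact h2
      xV := xV
      xn := xn
      yn := yn
      bR := bR
      hn := tn
      vV := hv
      br := by
        have h1 : x * (t * v * t⁻¹) * x⁻¹ * b * (x * (t * v * t⁻¹) * x⁻¹)⁻¹ * b⁻¹ =
            x * (t * v * t⁻¹ * b' * (t * v * t⁻¹)⁻¹ * b'⁻¹) * x⁻¹ := by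
          rw [hb']; group
        rw [h1, hcomm, xn]
      gV := hg
      ga := g2
      gn := g1
      wV := hwN
      wQ := hw
      wn := fun c hc => by
        have h1 := vc _ (conjQ tn hc) b' hbV'
        have h2 : t⁻¹ * b' * t * c * (t⁻¹ * b' * t)⁻¹ * c⁻¹ =
            t⁻¹ * (t * c * t⁻¹ * b' * (t * c * t⁻¹)⁻¹ * b'⁻¹)⁻¹ * t := by group
        rcases h1 with h1 | h1
        · left; rw [h2, h1]; group
        · right
          have h3 : n⁻¹ = n := inv_eq_of_mul_eq_one_left (D.sq _ _)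
          rw [h2, h1, h3, mul_assoc, ← tn, ← mul_assoc, inv_mul_cancel, one_mul]
      wc := fun h1 => by
        rw [hws p e he, Equiv.swap_apply_left, Equiv.swap_apply_of_ne_of_ne ep eq] at h1
        rcases D.inj q e p e (hpq.symm.trans he) he eq.symm h1 with h2 | h2
        · exact pq h2.1.symm
        · exact ep h2.2 }
  exact cf.exists_one

end Dd

/-- The partner side: `V'` with `n`, `a`, `b ∈ V'`. -/
structure Pd (S' V' : Subgroup G) (n a b : G) : Prop where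
  vQ : V' ≤ o2 (centralizer ({n} : Set G))
  vc : ∀ g ∈ o2 (centralizer ({n} : Set G)), ∀ v ∈ V', g * v * g⁻¹ * v⁻¹ = 1 ∨ g * v * g⁻¹ * v⁻¹ = n
  act : ∀ g ∈ o2 (centralizer ({a} : Set G)), (∀ v ∈ V', g * v = v * g) ∨ g * b ≠ b * g
  bV : b ∈ V'
  exists_y : ∃ y, y * n = n * y ∧ y * a * y⁻¹ = b
  fix : ∀ g ∈ S', g * a = a * g → g * b * g⁻¹ * b⁻¹ = 1 ∨ g * b * g⁻¹ * b⁻¹ = a

/-- **The mixed pair, one side with duads.** -/
theorem Dd.exists_pd [Finite G] {V : Subgroup G} {k m : ℕ} {d : Pt k m → Pt k m → G} (D : Dd V d) {p q r s : Pt k m}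
    (hpq : p.1 = q.1) (hpr : p.1 = r.1) (hps : p.1 = s.1) (pq : p ≠ q) (pr : p ≠ r) (ps : p ≠ s) (qr : q ≠ r)
    (qs : q ≠ s) (rs : r ≠ s) {S' V' : Subgroup G} {b : G} (h : Pd S' V' (d p q) (d r s) b)
    (hR : o2 (centralizer (V : Set G)) ≤ S') {x t v u : G}
    (xV : x ∈ normalizer (V : Set G)) (xV' : x ∈ normalizer (V' : Set G)) (xn : x * d p q * x⁻¹ = d r s)
    (tn : t * d p q = d p q * t) (hv : v ∈ V) (hu : u ∈ V') (hne : t * v * t⁻¹ * u ≠ u * (t * v * t⁻¹)) :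
    ∃ k, k * d p q = d p q * k ∧ ∃ v ∈ V, ∃ u ∈ V, k * v * k⁻¹ * u ≠ u * (k * v * k⁻¹) := by
  obtain ⟨y, yn, yb⟩ := h.exists_y
  -- the conjugate of `t v t⁻¹` by `x`
  have hq' : t * v * t⁻¹ ∈ o2 (centralizer ({d p q} : Set G)) := conjQ tn (D.VQ p q hpq pq hv)
  have hρ : x * (t * v * t⁻¹) * x⁻¹ ∈ o2 (centralizer ({d r s} : Set G)) := by
    have h1 : cj x (o2 (centralizer ({d p q} : Set G))) = o2 (centralizer ({d r s} : Set G)) := by
      rw [o2_conj x (d p q), xn]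
    rw [← h1]
    exact ⟨_, hq', rfl⟩
  have hmove := (h.act _ hρ).resolve_left fun h1 => hne (by
    have h2 := h1 _ ((mem_normalizer_iff.1 xV' u).1 hu)
    calc t * v * t⁻¹ * u = x⁻¹ * (x * (t * v * t⁻¹) * x⁻¹ * (x * u * x⁻¹)) * x := by group
      _ = x⁻¹ * (x * u * x⁻¹ * (x * (t * v * t⁻¹) * x⁻¹)) * x := by rw [h2]
      _ = u * (t * v * t⁻¹) := by group)
  refine D.exists_one hpq hpr hps pq pr ps qr qs rs (V' := V') h.vQ h.vc xV xV' xn yn ?_ ?_ tn hv ?_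
  · rw [yb]; exact h.bV
  · rw [yb]
    exact fun g hg => h.fix g (hR hg) (mem_centralizer_iff.1 (o2_le _ hg) _ (D.mem _ _)).symm
  · rw [yb]
    intro h1
    refine hmove ?_
    calc x * (t * v * t⁻¹) * x⁻¹ * b = x * (t * v * t⁻¹ * (x⁻¹ * b * x)) * x⁻¹ := by group
      _ = x * (x⁻¹ * b * x * (t * v * t⁻¹)) * x⁻¹ := by rw [h1]
      _ = b * (x * (t * v * t⁻¹) * x⁻¹) := by group

namespace Ds

variable [Finite G] {S' V' : Subgroup G} {k' m' : ℕ} {d' : Pt k' m' → Pt k' m' → G} (D' : Ds S' V' d')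

include D'

/-- `V'` with duads as the partner side -/
theorem pd {p q r s : Pt k' m'} (hpq : p.1 = q.1) (hrs : r.1 = s.1) (pq : p ≠ q) (rs : r ≠ s) (pr : p ≠ r)
    (ps : p ≠ s) (qr : q ≠ r) (qs : q ≠ s) (hp : p.2 ≠ 0) (hq : q.2 ≠ 0) (hr : r.2 ≠ 0) (hs : s.2 ≠ 0) :
    Pd S' V' (d' p q) (d' r s) (d' r (r.1, 0)) := by
  have E' := D'.toDd
  set o : Pt k' m' := (r.1, 0) with ho
  have or' : o ≠ r := fun e => hr (by rw [← e])
  have os : o ≠ s := fun e => hs (by rw [← e])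
  have op : o ≠ p := fun e => hp (by rw [← e])
  have oq : o ≠ q := fun e => hq (by rw [← e])
  obtain ⟨y, hy, hys⟩ := E'.lift (Equiv.swap s o) (Dd.swap_fst hrs.symm)
  refine
    { vQ := E'.VQ p q hpq pq
      vc := E'.cm p q hpq pq
      act := fun g hg => ?_
      bV := E'.mem _ _
      exists_y := ⟨y, ?_, ?_⟩
      fix := fun g hg h1 => ?_ }
  · refine (E'.act r s hrs rs g hg).2.imp_right fun h1 h3 => ?_
    have h2 := h1 r o rfl
    rw [h3, mul_inv_cancel_right, Equiv.swap_apply_left, Equiv.swap_apply_of_ne_of_ne or' os] at h2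
    rcases E'.inj r o s o rfl hrs.symm or'.symm h2 with h3 | h3
    · exact rs h3.1
    · exact or' h3.1.symm
  · have h1 := hys p q hpq
    rw [Equiv.swap_apply_of_ne_of_ne ps op.symm, Equiv.swap_apply_of_ne_of_ne qs oq.symm,
      mul_inv_eq_iff_eq_mul] at h1
    exact h1
  · rw [hys r s hrs, Equiv.swap_apply_of_ne_of_ne rs or'.symm, Equiv.swap_apply_left]
  · rcases D'.fix g hg r s hrs rs h1 with h2 | h2
    · left; rw [h2, mul_inv_cancel]
    · right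
      have h3 : (d' r o)⁻¹ = d' o r := by
        rw [E'.comm o r rfl]
        exact inv_eq_of_mul_eq_one_left (E'.sq _ _)
      rw [h2, h3, E'.mul s o r hrs.symm rfl, E'.comm s r hrs.symm]

/-- **The mixed pair of two modules with the same duads `n` and `a`.** -/
theorem exists_one {V : Subgroup G} {k m : ℕ} {d : Pt k m → Pt k m → G} (D : Dd V d) {p q r s : Pt k m}
    (hpq : p.1 = q.1) (hpr : p.1 = r.1) (hps : p.1 = s.1) (pq : p ≠ q)
    (pr : p ≠ r) (ps : p ≠ s) (qr : q ≠ r) (qs : q ≠ s) (rs : r ≠ s) {p' q' r' s' : Pt k' m'} (hpq' : p'.1 = q'.1)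
    (hrs' : r'.1 = s'.1) (pq' : p' ≠ q') (rs' : r' ≠ s') (pr' : p' ≠ r') (ps' : p' ≠ s') (qr' : q' ≠ r')
    (qs' : q' ≠ s') (hp : p'.2 ≠ 0) (hq : q'.2 ≠ 0) (hr : r'.2 ≠ 0) (hs : s'.2 ≠ 0) (en : d' p' q' = d p q)
    (ea : d' r' s' = d r s) (hR : o2 (centralizer (V : Set G)) ≤ S') {x t v u : G}
    (xV : x ∈ normalizer (V : Set G)) (xV' : x ∈ normalizer (V' : Set G)) (xn : x * d p q * x⁻¹ = d r s)
    (tn : t * d p q = d p q * t) (hv : v ∈ V) (hu : u ∈ V') (hne : t * v * t⁻¹ * u ≠ u * (t * v * t⁻¹)) :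
    ∃ k, k * d p q = d p q * k ∧ ∃ v ∈ V, ∃ u ∈ V, k * v * k⁻¹ * u ≠ u * (k * v * k⁻¹) := by
  have h := D'.pd hpq' hrs' pq' rs' pr' ps' qr' qs' hp hq hr hs
  rw [en, ea] at h
  exact D.exists_pd hpq hpr hps pq pr ps qr qs rs h hR xV xV' xn tn hv hu hne

end Ds

end Cfsg.Agent.Omega.IId.SwB.Mixed
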