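import Cfsg.Agent.Omega.IId.SwB.MixAbs
import Cfsg.Agent.Omega.IId.Big.Syl.Mix

/-!
# The mixed case: the side of natural factors over `F₂` (project OMEGA, II.d, SwBig; helper142 #21268 (B))

`h : Big.Syl.Sit M i` (`T = stab M i` is a Sylow 2-subgroup of `C_G(r)`, `⟨r⟩ = line M i`):

* **`side_of_sit`** : `Side (toRMod (pre M i)) r (stab M i) (grp M {i})`;
* `pair_of_sit` : `|Ω₁Z(T) ∩ C(grp M {i})| ≥ 4`, in the form needed by `mixed_false`.
-/

set_option autoImplicit false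
set_option linter.unusedSectionVars false

namespace Cfsg.Agent.Omega.IId.SwB

open Subgroup Cfsg Cfsg.Agent.ZN Cfsg.Agent.ZN.ChoiceBase
open Cfsg.Agent.Lib.SL2Mat
open Cfsg.Agent.Omega.MinPar Cfsg.Agent.Omega.FFThm Cfsg.Agent.Omega.FrameMulti
open Cfsg.Agent.Omega.Mix (RMod)
open Cfsg.Agent.Omega.IId.FourSide (pre pre_e vec_ne)
open Cfsg.Agent.Omega.IId.M4 (nmG toRMod toRMod_line)
open Cfsg.Agent.Omega.IId.BigFour (BOne stab_le_nmG grp_le_nmG pre_line)
open Cfsg.Agent.Omega.IId.Big.Syl (Sit)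

universe u

variable {G : Type u} [Group G] [Finite G] {F : Type} [Field F] [Finite F] [CharP F 2] {S : Sylow 2 G}
  {P : Subgroup G} {k : ℕ} {M : NatK F (S : Subgroup G) P (zl (S : Subgroup G) P) ⊥ k} {i : Fin k}

/-- **The natural side.** -/
theorem side_of_sit (h : Sit M i) {r : G} (hr : r ∈ line M i) (hr1 : r ≠ 1) :
    Side (toRMod (pre M i)) r (stab M i) (grp M {i}) where
  two := h.two
  line := by
    refine ⟨![1, 0], vec_ne, fun g => ?_⟩
    rw [toRMod_line, pre_line]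
    constructor
    · exact fun hg => mem_line_two M h.two hr hr1 hg
    · rintro (rfl | rfl)
      · exact one_mem _
      · exact hr
  r1 := hr1
  T2 := h.T2
  TN := stab_le_nmG h.SP
  TC := fun t ht => mem_centralizer_singleton_iff.2 (stab_comm_line M h.SP h.two hr ht)
  odd := by
    have h1 := h.odd
    rwa [h.norm_line hr hr1] at h1
  LT := (fac_le M i).trans (h.zl_le_stab i)
  DN := grp_le_nmG i
  lift := by
    intro A
    obtain ⟨g, hg, hgA⟩ := Lns.exists_lift M i A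
    refine ⟨g, hg, fun x => ?_⟩
    change g * (pre M i).e x * g⁻¹ = (pre M i).e (NatPair.ap A x)
    exact ext_fac M (Lns.grp_conj_fac hg ((pre M i).e_mem x)) ((pre M i).e_mem _)
      ((hgA _ ((pre M i).e_mem x).1).trans (by rw [pre_e, pre_e]))
  split := by
    intro f hf
    obtain ⟨u, hu, z, e, hz⟩ := h.split hf
    exact ⟨u, mem_line_two M h.two hr hr1 hu, z, e, hz⟩
  loc := fun _ hT hD => h.ot hT hD (grp_normalizes M {i} {i}) fun _ hv _ hw hv1 hw1 => exists_grp M hv hw hv1 hw1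

/-- `|Ω₁Z(T) ∩ C(grp M {i})| ≥ 4` -/
theorem pair_of_sit (h : Sit M i) : ∃ a d : G, (a ∈ zc (stab M i) ∧ ∀ g ∈ grp M {i}, g * a = a * g) ∧
    (d ∈ zc (stab M i) ∧ ∀ g ∈ grp M {i}, g * d = d * g) ∧ a ≠ 1 ∧ d ≠ 1 ∧ a * d ≠ 1 :=
  h.exists_pair

end Cfsg.Agent.Omega.IId.SwB
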