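import Cfsg.Agent.Omega.IId.SwB.SideSym
import Cfsg.Agent.Omega.IId.SwB.SideNat
import Cfsg.Agent.Omega.IId.SwB.Cnt
import Cfsg.Agent.Omega.IId.SwB.MixedInst
import Cfsg.Agent.Omega.IId.SymWr.Ht.Done
import Cfsg.Agent.Omega.IId.Big.Syl.Final
import Cfsg.Agent.Omega.IId.Big.SylCase

/-!
# II.d, `SwBig`: the pure and the mixed case (bb OMEGA #19821, #20093, #20414)

`h : SN S P V M` (THEOREM L and a partner for all duads of `V`), `n = pr M p q` a duad.

* `SN.exists_side` : the side `Side` at `n`, `|S| = k 2^(m-1) |T|`, `T` a Sylow 2-subgroup of `C_G(n)`;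
* `SN.pure_false` : the conjugates of `V` under `C_G(n)` commute (`Ht.Fr.false`);
* **`false_sym`** : a second module of type `S_{2^m'+1}` with the duad `n`: impossible;
* **`false_nat`** : a module with natural factors, `q' = 2`, with the line `⟨n⟩`: impossible.
-/

set_option autoImplicit false
set_option linter.unusedSectionVars false

namespace Cfsg.Agent.Omega.IId.SwB

open Subgroup Cfsg Cfsg.Agent.Omega.MinPar Cfsg.Agent.Omega.FFThm
open Cfsg.Agent.ZN (o2 zc zl)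
open Cfsg.Agent.Lib.SL2Mat
open Cfsg.Agent.Omega.FrameMulti
open Cfsg.Agent.Omega.Half.SymA (Pt E Mv pm)
open Cfsg.Agent.Omega.Mix (RMod)
open Cfsg.Agent.Omega.BTwo (mem_cj cj_mono cj_eq_self_iff conj_mem_cj cj_inv_cj cj_cj_inv)
open Cfsg.Agent.Omega.IId.SymWr
open Cfsg.Agent.Omega.IId.SymWr.Ht (tn)

universe u

variable {G : Type u} [Group G]

/-! ### Conjugates of a side -/

section conj

variable {F : Type*} [Field F] {L N : Subgroup G} {M : RMod F L N} {r : G} {T D : Subgroup G}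

/-- conjugates -/
theorem Side.conjAll (A : Side M r T D) (c : G) :
    Side (M.conj c) (c * r * c⁻¹) (BTwo.cj c T) (BTwo.cj c D) := by
  have hcC : BTwo.cj c (centralizer ({r} : Set G)) = centralizer ({c * r * c⁻¹} : Set G) :=
    (Triangle.cent_conj c r).symm
  obtain ⟨w, hw, hl⟩ := A.line
  refine ⟨A.two, ⟨w, hw, fun g => ?_⟩, fun e => A.r1 (conj_eq_one_iff.1 e), A.T2.map _, cj_mono A.TN, ?_, ?_,
    cj_mono A.LT, cj_mono A.DN, ?_, ?_, ?_⟩
  · rw [M.conj_line]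
    change g ∈ BTwo.cj c (M.line w) ↔ _
    rw [mem_cj, hl]
    constructor
    · rintro (h | h)
      · left
        have : g = c * (c⁻¹ * g * c) * c⁻¹ := by group
        rw [this, h]; group
      · right
        rw [← h]; group
    · rintro (rfl | rfl)
      · left; group
      · right; group
  · rw [← hcC]; exact cj_mono A.TC
  · have h1 : (BTwo.cj c T).relIndex (BTwo.cj c (centralizer ({r} : Set G))) =
        T.relIndex (centralizer ({r} : Set G)) :=
      relIndex_map_map_of_injective _ _ (MulAut.conj c).injective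
    rw [hcC] at h1
    rw [h1]
    exact A.odd
  · intro B
    obtain ⟨g, hg, h1⟩ := A.lift B
    refine ⟨c * g * c⁻¹, conj_mem_cj hg, fun x => ?_⟩
    change c * g * c⁻¹ * (c * M.e x * c⁻¹) * (c * g * c⁻¹)⁻¹ = c * M.e (NatPair.ap B x) * c⁻¹
    rw [← h1]
    group
  · intro f hf
    have hf' : c⁻¹ * f * c ∈ zc T := by
      obtain ⟨h1, h2, h3⟩ := MinSimple.VModule.mem_zc.1 hf
      refine MinSimple.VModule.mem_zc.2 ⟨?_, fun y hy => ?_, ?_⟩
      · rw [← mem_cj]; exact h1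
      · have h5 := h2 _ (conj_mem_cj (g := c) hy)
        calc y * (c⁻¹ * f * c) = c⁻¹ * (c * y * c⁻¹ * f) * c := by group
          _ = c⁻¹ * (f * (c * y * c⁻¹)) * c := by rw [h5]
          _ = c⁻¹ * f * c * y := by group
      · calc (c⁻¹ * f * c) ^ 2 = c⁻¹ * (f ^ 2) * c := by rw [pow_two, pow_two]; group
          _ = 1 := by rw [h3]; group
    obtain ⟨u, hu, z, e, hz⟩ := A.split _ hf'
    refine ⟨c * u * c⁻¹, ?_, c * z * c⁻¹, ?_, fun g hg => ?_⟩
    · rcases hu with rfl | rfl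
      · left; group
      · right; rfl
    · calc f = c * (c⁻¹ * f * c) * c⁻¹ := by group
        _ = c * (u * z) * c⁻¹ := by rw [e]
        _ = c * u * c⁻¹ * (c * z * c⁻¹) := by group
    · rw [mem_cj] at hg
      have h1 := hz _ hg
      calc g * (c * z * c⁻¹) = c * (c⁻¹ * g * c * z) * c⁻¹ := by group
        _ = c * (z * (c⁻¹ * g * c)) * c⁻¹ := by rw [h1]
        _ = c * z * c⁻¹ * g := by group
  · intro H hT hD
    have e1 : BTwo.cj c (BTwo.cj c⁻¹ H) = H := cj_cj_inv c H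
    have hT' : T ≤ BTwo.cj c⁻¹ H := by
      have := cj_mono (g := c⁻¹) hT
      rwa [cj_inv_cj] at this
    have hD' : D ≤ BTwo.cj c⁻¹ H := by
      have := cj_mono (g := c⁻¹) hD
      rwa [cj_inv_cj] at this
    have h1 := A.loc _ hT' hD'
    intro q hq
    rw [mem_centralizer_iff]
    intro v hv
    have hv' : c⁻¹ * v * c ∈ L := by rw [← mem_cj]; exact hv
    have hq' : c⁻¹ * q * c ∈ BTwo.O2 (BTwo.cj c⁻¹ H) := by
      rw [← BTwo.cj_O2, mem_cj, inv_inv]
      have e : c * (c⁻¹ * q * c) * c⁻¹ = q := by group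
      rw [e]; exact hq
    have h2 := mem_centralizer_iff.1 (h1 hq') _ hv'
    calc v * q = c * (c⁻¹ * v * c * (c⁻¹ * q * c)) * c⁻¹ := by group
      _ = c * (c⁻¹ * q * c * (c⁻¹ * v * c)) * c⁻¹ := by rw [h2]
      _ = q * v := by group

/-- `|Ω₁Z(T) ∩ C(D)| ≥ 4` -/
def HasPair (T D : Subgroup G) : Prop :=
  ∃ a d : G, (a ∈ zc T ∧ ∀ g ∈ D, g * a = a * g) ∧ (d ∈ zc T ∧ ∀ g ∈ D, g * d = d * g) ∧ a ≠ 1 ∧ d ≠ 1 ∧ a * d ≠ 1

theorem HasPair.conj (h : HasPair T D) (c : G) : HasPair (BTwo.cj c T) (BTwo.cj c D) := by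
  obtain ⟨a, d, ⟨ha, ha'⟩, ⟨hd, hd'⟩, h1, h2, h3⟩ := h
  have key : ∀ {a : G}, a ∈ zc T → (∀ g ∈ D, g * a = a * g) →
      c * a * c⁻¹ ∈ zc (BTwo.cj c T) ∧ ∀ g ∈ BTwo.cj c D, g * (c * a * c⁻¹) = c * a * c⁻¹ * g := by
    intro a ha ha'
    obtain ⟨k1, k2, k3⟩ := MinSimple.VModule.mem_zc.1 ha
    refine ⟨MinSimple.VModule.mem_zc.2 ⟨conj_mem_cj k1, fun y hy => ?_, ?_⟩, fun g hg => ?_⟩
    · rw [mem_cj] at hy
      have k4 := k2 _ hy
      calc y * (c * a * c⁻¹) = c * (c⁻¹ * y * c * a) * c⁻¹ := by group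
        _ = c * (a * (c⁻¹ * y * c)) * c⁻¹ := by rw [k4]
        _ = c * a * c⁻¹ * y := by group
    · calc (c * a * c⁻¹) ^ 2 = c * (a ^ 2) * c⁻¹ := by rw [pow_two, pow_two]; group
        _ = 1 := by rw [k3]; group
    · rw [mem_cj] at hg
      have k4 := ha' _ hg
      calc g * (c * a * c⁻¹) = c * (c⁻¹ * g * c * a) * c⁻¹ := by group
        _ = c * (a * (c⁻¹ * g * c)) * c⁻¹ := by rw [k4]
        _ = c * a * c⁻¹ * g := by group
  refine ⟨c * a * c⁻¹, c * d * c⁻¹, key ha ha', key hd hd', fun e => h1 (conj_eq_one_iff.1 e),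
    fun e => h2 (conj_eq_one_iff.1 e), fun e => h3 ?_⟩
  have e1 : c * a * c⁻¹ * (c * d * c⁻¹) = c * (a * d) * c⁻¹ := by group
  rw [e1] at e
  exact conj_eq_one_iff.1 e

end conj

/-! ### The side of a module of type `S_{2^m+1}` -/

section sym

variable [Finite G] {S : Sylow 2 G} {P V : Subgroup G} {k m : ℕ} {M : SymK (S : Subgroup G) P V ⊥ k m}

/-- The side at the duad `n`. -/
structure SideAt (S V : Subgroup G) (n : G) (k m : ℕ) (b : G → Prop) (L N : Subgroup G) (R : RMod (ZMod 2) L N)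
    (T D : Subgroup G) : Prop where
  side : Side R n T D
  le : L ≤ V
  ne : ∃ v ∈ L, b v
  card : Nat.card S = k * 2 ^ (m - 1) * Nat.card T
  pair : 2 ≤ k → HasPair T D

theorem exists_side (h : SN S P V M) {p q : Pt k m} (hpq : p.1 = q.1) (pq : p ≠ q) :
    ∃ (L N : Subgroup G) (R : RMod (ZMod 2) L N) (T D : Subgroup G),
      SideAt (S : Subgroup G) V (pr M p q) k m (fun v => E M v p ≠ E M v q) L N R T D := by
  obtain ⟨μ, ν, F⟩ := exists_fours h.toSit
  obtain ⟨c, -, hc⟩ := Half.SymA.exists_third h.hm1 0 0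
  obtain ⟨x, hx⟩ : ∃ x : Pt k m, x.2 ≠ 0 := ⟨(⟨0, h.hk⟩, c), hc⟩
  have hzv : zc (o2 P) ≤ V := fun z hz => by
    have h1 := MinSimple.VModule.mem_zc.1 hz
    exact h.zv (by rw [← pow_two]; exact h1.2.2) h1.2.1
  have syl : ¬ 2 ∣ (tn S M μ x).relIndex (centralizer ({pr M x (μ x)} : Set G)) := h.sylT F hx
  have t := SymS.tri F hx
  obtain ⟨g, hg, hgn⟩ := exists_conj_pr h.toSit hpq pq t.pq t.n1
  have hgn' : g⁻¹ * pr M x (μ x) * g⁻¹⁻¹ = pr M p q := by rw [← hgn]; group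
  have A := (SymS.side h.toSit F hx hzv syl).conjAll g⁻¹
  rw [hgn'] at A
  refine ⟨_, _, _, _, _, A, ?_, ?_, ?_, fun hk => ?_⟩
  · intro v hv
    have h1 : v ∈ BTwo.cj g⁻¹ (SymS.L3 M x (μ x) (x.1, 0)) := hv
    rw [mem_cj, inv_inv] at h1
    have h2 := h.amb.conj_mem (inv_mem hg) (SymS.L3_le h1)
    have e : g⁻¹ * (g * v * g⁻¹) * g⁻¹⁻¹ = v := by group
    rwa [e] at h2
  · have ha := pr_mem M x (x.1, 0)
    have hBl : pr M x (x.1, 0) ∈ SymS.L3 M x (μ x) (x.1, 0) := ⟨ha, fun s h1 _ h3 => E_pr_of_ne M t.pr h1 h3⟩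
    refine ⟨g⁻¹ * pr M x (x.1, 0) * g⁻¹⁻¹, conj_mem_cj hBl, ?_⟩
    have key : ∀ s, E M (g⁻¹ * pr M x (x.1, 0) * g⁻¹⁻¹) s = E M (pr M x (x.1, 0)) (pp M g s) := by
      intro s
      have h1 := E_conj (M := M) (inv_mem hg) ha (pp M g s)
      rw [h.inv hg] at h1
      have e : (pp M g)⁻¹ (pp M g s) = s := (pp M g).symm_apply_apply s
      rwa [e] at h1
    have h2 : pr M (pp M g p) (pp M g q) = pr M x (μ x) := by rw [← h.conj_pr hg hpq, hgn]
    have e1 : E M (pr M x (x.1, 0)) x = 1 := E_pr_left M t.pr t.n2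
    have e2 : E M (pr M x (x.1, 0)) (μ x) = 0 := E_pr_of_ne M t.pr t.n1.symm t.n3
    show E M _ p ≠ E M _ q
    rw [key, key]
    rcases Mixed.pair_eq (h.fst hg hpq) t.pq (fun e => pq ((pp M g).injective e)) h2 with ⟨a, b⟩ | ⟨a, b⟩
    · rw [a, b, e1, e2]; exact one_ne_zero
    · rw [a, b, e1, e2]; exact zero_ne_one
  · have h1 : Nat.card (BTwo.cj g⁻¹ (tn S M μ x)) = Nat.card (tn S M μ x) :=
      Nat.card_congr ((tn S M μ x).equivMapOfInjective _ (MulAut.conj g⁻¹).injective).symm.toEquiv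
    rw [h1]
    exact card_S h.toSit F hx
  · exact HasPair.conj (SymS.exists_pair h.toSit F hx hzv syl hk) g⁻¹

/-- **no T-T pair** -/
theorem pure_false (h : SN S P V M) (hkm : 2 ≤ k ∨ 3 ≤ m) {p q : Pt k m} (hpq : p.1 = q.1) (pq : p ≠ q) {t : G}
    (ht : t ∈ centralizer ({pr M p q} : Set G)) {v w : G} (hv : v ∈ V) (hw : w ∈ V) :
    v * (t * w * t⁻¹) = t * w * t⁻¹ * v := by
  by_contra hne
  exact Ht.Fr.false (S := S) (P := P) (V := V) (M := M)
    { toSit := h.toSit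
      char2 := h.c2
      Qle := fun {p q} h1 h2 => h.QP p q h1 h2
      par := ⟨p, q, hpq, pq, t, ht, v, hv, w, hw, hne⟩ } hkm

end sym

/-! ### The theorems -/

section main

variable [Finite G] {S S' : Sylow 2 G} {P P' V V' : Subgroup G} {k k' m m' : ℕ}

theorem card_sylow (S S' : Sylow 2 G) : Nat.card (S' : Subgroup G) = Nat.card (S : Subgroup G) := by
  rw [S.card_eq_multiplicity, S'.card_eq_multiplicity]

theorem card_eq_of_side {F F' : Type*} [Field F] [Field F'] {L N L' N' : Subgroup G} {R : RMod F L N}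
    {R' : RMod F' L' N'} {r : G} {T D T' D' : Subgroup G} (A : Side R r T D) (B : Side R' r T' D') :
    Nat.card T' = Nat.card T :=
  Nat.dvd_antisymm (HT.card_dvd_card A.TC A.odd B.T2 B.TC) (HT.card_dvd_card B.TC B.odd A.T2 A.TC)

/-- **Two modules of type `S_{2^m+1}`.** -/
theorem false_sym {M : SymK (S : Subgroup G) P V ⊥ k m} {M' : SymK (S' : Subgroup G) P' V' ⊥ k' m'}
    (h : SN S P V M) (h' : SN S' P' V' M') (hk : 2 ≤ k) {p q : Pt k m} (hpq : p.1 = q.1) (pq : p ≠ q)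
    {p' q' : Pt k' m'} (hpq' : p'.1 = q'.1) (pq' : p' ≠ q') (en : pr M p q = pr M' p' q')
    (hne : ∀ v ∈ V, ∀ w ∈ V', E M v p ≠ E M v q → E M' w p' ≠ E M' w q' → v * w ≠ w * v) : False := by
  obtain ⟨L, N, R, T, D, A⟩ := exists_side h hpq pq
  obtain ⟨L', N', R', T', D', B⟩ := exists_side h' hpq' pq'
  have B1 := B.side
  rw [← en] at B1
  have hc := card_eq_of_side A.side B1
  have h1 : k * 2 ^ (m - 1) = k' * 2 ^ (m' - 1) := by
    have h2 := A.card
    have h3 := B.card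
    rw [card_sylow S S', h2, hc] at h3
    exact Nat.eq_of_mul_eq_mul_right Nat.card_pos h3
  have hkm' : 2 ≤ k' ∨ 3 ≤ m' := by
    by_contra hcon
    push Not at hcon
    have h2 : 2 ≤ 2 ^ (m - 1) := by
      have h3 : 1 ≤ m - 1 := by have := h.hm; omega
      calc 2 = 2 ^ 1 := by norm_num
        _ ≤ 2 ^ (m - 1) := Nat.pow_le_pow_right (by norm_num) h3
    have h4 : k' = 1 := by have := h'.hk; omega
    have h5 : m' = 2 := by have := h'.hm; omega
    rw [h4, h5] at h1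
    norm_num at h1
    nlinarith
  obtain ⟨v, hv, hvE⟩ := A.ne
  obtain ⟨w, hw, hwE⟩ := B.ne
  refine mixed_false h.c2 A.side B1 (A.pair hk) ?_ ?_ ⟨v, hv, w, hw, hne v (A.le hv) w (B.le hw) hvE hwE⟩
  · exact fun g hg v hv w hw => pure_false h (Or.inl hk) hpq pq hg (A.le hv) (A.le hw)
  · intro g hg v hv w hw
    rw [en] at hg
    exact pure_false h' hkm' hpq' pq' hg (B.le hv) (B.le hw)

/-- **A module of type `S_{2^m+1}` and a module with natural factors.** -/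
theorem false_nat {M : SymK (S : Subgroup G) P V ⊥ k m} {F' : Type} [Field F'] [Finite F'] [CharP F' 2]
    {M' : NatK F' (S' : Subgroup G) P' (zl (S' : Subgroup G) P') ⊥ k'} (h : SN S P V M) (hk : 2 ≤ k)
    {p q : Pt k m} (hpq : p.1 = q.1) (pq : p ≠ q) {i : Fin k'} (hP' : IsParS (S' : Subgroup G) P') (hC : CC M')
    (hF : Nat.card F' = 2) (hfr : Big.Fr (S' : Subgroup G) (fac M')) (hr : pr M p q ∈ line M' i)
    (hne : ∃ w ∈ fac M' i, ∀ v ∈ V, E M v p ≠ E M v q → v * w ≠ w * v) : False := by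
  have hSP' : (S' : Subgroup G) ≤ P' := hP'.isLoc.le
  obtain ⟨L, N, R, T, D, A⟩ := exists_side h hpq pq
  have hn1 : pr M p q ≠ 1 := A.side.r1
  have h2 : 2 ≤ 2 ^ (m - 1) := by
    have h3 : 1 ≤ m - 1 := by have := h.hm; omega
    calc 2 = 2 ^ 1 := by norm_num
      _ ≤ 2 ^ (m - 1) := Nat.pow_le_pow_right (by norm_num) h3
  have hcS := card_stab M' hSP' i
  have hT' : stab M' i ≤ centralizer ({pr M p q} : Set G) := fun t ht =>
    mem_centralizer_singleton_iff.2 (stab_comm_line M' hSP' hF hr ht)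
  have hT2' : IsPGroup 2 (stab M' i) := S'.isPGroup'.to_le (stab_le M' i)
  have hle := Nat.le_of_dvd Nat.card_pos (HT.card_dvd_card A.side.TC A.side.odd hT2' hT')
  have hcard := A.card
  rw [card_sylow S S', hcard] at hcS
  have hTpos : 0 < Nat.card T := Nat.card_pos
  -- `k' ≥ 4`
  have h4 : k * 2 ^ (m - 1) ≤ k' := by
    by_contra hcon
    push Not at hcon
    have h5 : k' * Nat.card (stab M' i) ≤ k' * Nat.card T := Nat.mul_le_mul_left _ hle
    have h6 : k' * Nat.card T < k * 2 ^ (m - 1) * Nat.card T := Nat.mul_lt_mul_of_pos_right hcon hTpos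
    omega
  have h5 : 4 ≤ k' := le_trans (by nlinarith) h4
  have hodd := Big.Syl.stab_sylow h.c2 hP' hC hF hfr (by omega) i
  have B : Big.Syl.Sit M' i := ⟨h.c2, hP', hC, hF, by omega, hfr, hodd⟩
  have B1 := side_of_sit B hr hn1
  obtain ⟨v, hv, hvE⟩ := A.ne
  obtain ⟨w, hw, hwv⟩ := hne
  refine mixed_false h.c2 A.side B1 (A.pair hk) ?_ ?_ ⟨v, hv, w, hw, hwv v (A.le hv) hvE⟩
  · exact fun g hg v hv w hw => pure_false h (Or.inl hk) hpq pq hg (A.le hv) (A.le hw)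
  · intro g hg v hv w hw
    by_contra hne
    refine B.unm_false (c := g) ?_ ⟨v, hv, w, hw, hne⟩
    rw [B.norm_line hr hn1]
    exact hg

end main

end Cfsg.Agent.Omega.IId.SwB
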