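import Cfsg.Agent.Omega.IId.SymWrD.Mod
import Cfsg.Agent.Involutions.BaerSuzuki

/-!
# II.d, `SwBig`, T-T: LEMMA R and (HF) of bb OMEGA #20414 (helper290)

`SymWrD.Sit S P V M`, `Ω₁(Z(O₂(P))) ≤ V`.

* `exists_restr` : the restriction of an element of `S` to a summand which it fixes is induced by an element of `S`;
  `exists_in` : so `S` has, for nonzero points `p`, `q` of one summand, an element `p ↦ q` trivial on the other summands;
* `S0 h` : the elements of `S` which centralise all `σ_l`, i.e. fix all summands (`mem_S0`); a 2-group which centralises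
  all `σ_l` and contains `S0 h` is `S0 h` (`syl_S0`);
* `lemR` : **LEMMA R**: `Y` a 2-group normalised by `S0 h`, `Y ∩ S0 h` trivial on the summands outside `J`, `Y`
  centralises `σ_j`, `j ∈ J` ⟹ `Y ≤ S0 h`; `lemR_a` (`J = ∅`), `lemR_b` (`J = {i}`);
* `HF` : a 2-subgroup `O` which is normalised by all elements of `P` inside the summands is contained in `O₂(P)`;
  `HF_zc` : so `V ≤ Ω₁(Z(O))`, if moreover `C_G(O) ≤ O`.
-/

set_option autoImplicit false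

namespace Cfsg.Agent.Omega.IId.SwB

open Cfsg.Agent.Omega.IId.SymWrD
open Subgroup Pointwise Cfsg Cfsg.Agent.ZN Cfsg.Agent.Omega.MinPar Cfsg.Agent.Omega.FFThm
open Cfsg.Agent.Omega.Half.SymA (Pt E Mv pm Amb0)
open Cfsg.Agent.MinSimple.VModule (mem_zc zc_le zc_comm zc_sq zc_le_zl le_normalizer_o2 o2_isPGroup o2_le
  normalizer_le_normalizer_zc le_normalizer_zl mem_normalizer_of_map_le)

universe u

variable {G : Type u} [Group G] {P V : Subgroup G} {k m : ℕ} {S : Sylow 2 G} {M : SymK (S : Subgroup G) P V ⊥ k m}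

/-! ### Restrictions -/

/-- the permutations which are, on each summand, induced by an element of `S` -/
def RR (h : Sit S P V M) : Subgroup (Equiv.Perm (Pt k m)) where
  carrier := {δ | ∀ j : Fin k, ∃ s ∈ (S : Subgroup G), ∀ p : Pt k m, p.1 = j → δ p = pp M s p ∧ (pp M s p).1 = j}
  mul_mem' := by
    intro a b ha hb j
    obtain ⟨s, hs, h1⟩ := ha j
    obtain ⟨t, ht, h2⟩ := hb j
    refine ⟨s * t, mul_mem hs ht, fun p hp => ?_⟩
    rw [h.mul (h.SP hs) (h.SP ht), Equiv.Perm.mul_apply, Equiv.Perm.mul_apply, (h2 p hp).1]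
    exact h1 _ (h2 p hp).2
  one_mem' := fun j => ⟨1, one_mem _, fun p hp => by rw [h.one]; exact ⟨rfl, hp⟩⟩
  inv_mem' := by
    intro a ha j
    obtain ⟨s, hs, h1⟩ := ha j
    refine ⟨s⁻¹, inv_mem hs, fun p hp => ?_⟩
    rw [h.inv (h.SP hs)]
    set r := (pp M s)⁻¹ p with hr
    have h2 : pp M s r = p := (pp M s).apply_symm_apply p
    have h3 : r.1 = p.1 := by
      rw [← pp_fst_iff h.amb h.hm1 (h.SP hs) (M := M), h2, (h1 p hp).2, hp]
    refine ⟨?_, h3.trans hp⟩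
    rw [Equiv.Perm.inv_eq_iff_eq, (h1 r (h3.trans hp)).1, h2]

theorem RR_two [Finite G] (h : Sit S P V M) : IsPGroup 2 (RR h) := by
  obtain ⟨n, hn⟩ := IsPGroup.iff_card.1 S.isPGroup'
  rintro ⟨δ, hδ⟩
  refine ⟨n, Subtype.ext ?_⟩
  change δ ^ 2 ^ n = 1
  ext1 p
  obtain ⟨s, hs, h1⟩ := hδ p.1
  have h2 : ∀ i : ℕ, ∀ q : Pt k m, q.1 = p.1 → (δ ^ i) q = pp M (s ^ i) q ∧ (pp M (s ^ i) q).1 = p.1 := by
    intro i
    induction i with
    | zero => intro q hq; rw [pow_zero, pow_zero, h.one]; exact ⟨rfl, hq⟩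
    | succ i ih =>
      intro q hq
      rw [pow_succ, pow_succ, h.mul (pow_mem (h.SP hs) i) (h.SP hs), Equiv.Perm.mul_apply, Equiv.Perm.mul_apply,
        (h1 q hq).1]
      exact ih _ (h1 q hq).2
  have h3 : s ^ 2 ^ n = 1 := by
    have h4 : (⟨s, hs⟩ : (S : Subgroup G)) ^ 2 ^ n = 1 := by rw [← hn]; exact pow_card_eq_one'
    exact congrArg Subtype.val h4
  rw [(h2 _ p rfl).1, h3, h.one]

theorem RR_conj (h : Sit S P V M) {s : G} (hs : s ∈ (S : Subgroup G)) {δ : Equiv.Perm (Pt k m)} (hδ : δ ∈ RR h) :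
    pp M s * δ * (pp M s)⁻¹ ∈ RR h := by
  intro j
  obtain ⟨t, ht, h1⟩ := hδ ((pp M s)⁻¹ (j, 0)).1
  refine ⟨s * t * s⁻¹, mul_mem (mul_mem hs ht) (inv_mem hs), fun p hp => ?_⟩
  rw [h.conj (h.SP hs) (h.SP ht)]
  set r := (pp M s)⁻¹ p with hr
  have h2 : r.1 = ((pp M s)⁻¹ (j, 0)).1 := by
    rw [hr, ← h.inv (h.SP hs)]
    exact h.fst (inv_mem (h.SP hs)) hp
  obtain ⟨h3, h4⟩ := h1 r h2
  rw [Equiv.Perm.mul_apply, Equiv.Perm.mul_apply, Equiv.Perm.mul_apply, Equiv.Perm.mul_apply, ← hr, h3]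
  refine ⟨rfl, ?_⟩
  have h5 : (pp M s (pp M t r)).1 = (pp M s ((pp M s)⁻¹ (j, 0))).1 := h.fst (h.SP hs) h4
  rw [h5, show pp M s ((pp M s)⁻¹ (j, 0)) = (j, 0) from (pp M s).apply_symm_apply _]

/-- **Restrictions.** -/
theorem exists_restr [Finite G] (h : Sit S P V M) {s : G} (hs : s ∈ (S : Subgroup G)) {i : Fin k}
    (hi : ∀ p : Pt k m, p.1 = i → (pp M s p).1 = i) :
    ∃ t ∈ (S : Subgroup G), (∀ p : Pt k m, p.1 = i → pp M t p = pp M s p) ∧ ∀ p : Pt k m, p.1 ≠ i → pp M t p = p := by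
  classical
  have hi' : ∀ p : Pt k m, (pp M s p).1 = i ↔ p.1 = i := by
    intro p
    refine ⟨fun hp => ?_, hi p⟩
    have h1 : (pp M s p).1 = (pp M s (i, 0)).1 := by rw [hp, hi (i, 0) rfl]
    exact (pp_fst_iff h.amb h.hm1 (h.SP hs) (M := M)).1 h1
  set δ : Equiv.Perm (Pt k m) := Equiv.Perm.ofSubtype (Equiv.Perm.subtypePerm (p := fun p : Pt k m => p.1 = i) (pp M s) hi')
    with hδ
  have h1 : ∀ p : Pt k m, p.1 = i → δ p = pp M s p := by
    intro p hp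
    exact Equiv.Perm.ofSubtype_apply_of_mem (p := fun p : Pt k m => p.1 = i) _ hp
  have h2 : ∀ p : Pt k m, p.1 ≠ i → δ p = p := fun p hp =>
    Equiv.Perm.ofSubtype_apply_of_not_mem (p := fun p : Pt k m => p.1 = i) _ hp
  have h3 : δ ∈ RR h := by
    intro j
    by_cases hj : j = i
    · exact ⟨s, hs, fun p hp => ⟨h1 p (hp.trans hj), (hi p (hp.trans hj)).trans hj.symm⟩⟩
    · refine ⟨1, one_mem _, fun p hp => ?_⟩
      rw [h.one]
      exact ⟨h2 p (by rw [hp]; exact hj), hp⟩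
  obtain ⟨t, ht, h4⟩ := h.induced (RR_two h) (fun δ hδ p => by
    obtain ⟨s, -, h5⟩ := hδ p.1
    rw [(h5 p rfl).1, (h5 p rfl).2]) (fun s hs δ hδ => RR_conj h hs hδ) h3
  exact ⟨t, ht, fun p hp => by rw [h4, h1 p hp], fun p hp => by rw [h4, h2 p hp]⟩

/-! ### `S0` -/

/-- the elements of `S` which centralise all `σ_l` -/
noncomputable def S0 (h : Sit S P V M) : Subgroup G :=
  (S : Subgroup G) ⊓ centralizer (Set.range fun l => (sg h l).val)

theorem exists_ne_zero (hm : 1 ≤ m) : ∃ x : Fin (2 ^ m + 1), x ≠ 0 := by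
  obtain ⟨c, -, hc⟩ := Half.SymA.exists_third hm 0 0
  exact ⟨c, hc⟩

theorem mem_S0 (h : Sit S P V M) {s : G} :
    s ∈ S0 h ↔ s ∈ (S : Subgroup G) ∧ ∀ p : Pt k m, (pp M s p).1 = p.1 := by
  unfold S0
  rw [mem_inf]
  refine and_congr_right fun hs => ?_
  rw [mem_centralizer_iff]
  constructor
  · intro h1 p
    obtain ⟨x, hx⟩ := exists_ne_zero h.hm1
    have h3 := (h.comm_iff (h.SP hs) (sg_mem h p.1)).1 (h1 _ ⟨p.1, rfl⟩).symm (p.1, x)
    rw [E_sg, E_sg, if_pos rfl, if_neg hx] at h3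
    by_contra hne
    have h4 : (pp M s (p.1, x)).1 = (pp M s p).1 := h.fst (h.SP hs) rfl
    rw [if_neg (by rw [h4]; exact hne)] at h3
    exact zero_ne_one h3
  · rintro h1 _ ⟨l, rfl⟩
    refine ((h.comm_iff (h.SP hs) (sg_mem h l)).2 fun p => ?_).symm
    rw [E_sg, E_sg, h1 p]
    by_cases h2 : p.1 = l
    · rw [if_pos h2, if_pos h2]
      by_cases h3 : p.2 = 0
      · rw [if_pos h3, if_pos ((h.snd hs).2 h3)]
      · rw [if_neg h3, if_neg fun h4 => h3 ((h.snd hs).1 h4)]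
    · rw [if_neg h2, if_neg h2]

theorem S0_le (h : Sit S P V M) : S0 h ≤ (S : Subgroup G) := inf_le_left

theorem S0_fst (h : Sit S P V M) {s : G} (hs : s ∈ S0 h) (p : Pt k m) : (pp M s p).1 = p.1 := ((mem_S0 h).1 hs).2 p

theorem S0_comm (h : Sit S P V M) {s : G} (hs : s ∈ S0 h) (l : Fin k) : s * (sg h l).val = (sg h l).val * s :=
  (mem_centralizer_iff.1 (mem_inf.1 hs).2 _ ⟨l, rfl⟩).symm

theorem Q_le_S0 (h : Sit S P V M) : o2 P ≤ S0 h := fun s hs =>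
  (mem_S0 h).2 ⟨h.QS hs, fun p => by rw [(h.mem_Q_iff (h.QS hs)).1 hs]; rfl⟩

theorem exists_in [Finite G] (h : Sit S P V M) {p q : Pt k m} (hpq : p.1 = q.1) (hp : p.2 ≠ 0) (hq : q.2 ≠ 0) :
    ∃ s ∈ S0 h, pp M s p = q ∧ ∀ r : Pt k m, r.1 ≠ p.1 → pp M s r = r := by
  obtain ⟨s, hs, h1⟩ := h.trans hp hq
  have h0 : ∀ r : Pt k m, r.1 = p.1 → (pp M s r).1 = p.1 := by
    intro r hr
    rw [h.fst (h.SP hs) hr, h1, hpq]
  obtain ⟨t, ht, h2, h3⟩ := exists_restr h hs h0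
  refine ⟨t, (mem_S0 h).2 ⟨ht, fun r => ?_⟩, by rw [h2 p rfl, h1], h3⟩
  by_cases hr : r.1 = p.1
  · rw [h2 r hr, h0 r hr, hr]
  · rw [h3 r hr]

/-- `S0 h` is a Sylow subgroup of the centraliser of all `σ_l` -/
theorem syl_S0 [Finite G] (h : Sit S P V M) {X : Subgroup G} (hX : IsPGroup 2 X)
    (hXc : ∀ x ∈ X, ∀ l, x * (sg h l).val = (sg h l).val * x) (hSX : S0 h ≤ X) : X ≤ S0 h := by
  have : Fact (Nat.Prime 2) := ⟨Nat.prime_two⟩
  set C : Subgroup G := centralizer (Set.range fun l => (sg h l).val) with hC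
  have hSN : (S : Subgroup G) ≤ normalizer (C : Set G) := by
    intro s hs
    refine mem_normalizer_of_map_le ?_
    rintro _ ⟨c, hc, rfl⟩
    change s * c * s⁻¹ ∈ C
    rw [hC, mem_centralizer_iff]
    rintro _ ⟨l, rfl⟩
    change (sg h l).val * (s * c * s⁻¹) = s * c * s⁻¹ * (sg h l).val
    -- `s⁻¹ σ_l s = σ_l'`
    have h1 : s⁻¹ * (sg h l).val * s⁻¹⁻¹ = (sg h ((pp M s⁻¹ (l, 0)).1)).val := by
      refine Half.SymA.inj M (h.amb.conj_mem (inv_mem (h.SP hs)) (sg_mem h _)) (sg_mem h _) fun p => ?_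
      rw [E_conj' (inv_mem (h.SP hs)) (sg_mem h _), h.inv (h.SP hs), inv_inv, E_sg, E_sg]
      have h2 : (pp M s p).1 = l ↔ p.1 = ((pp M s)⁻¹ (l, 0)).1 := by
        rw [← pp_fst_iff h.amb h.hm1 (h.SP hs) (M := M) (p := p),
          show pp M s ((pp M s)⁻¹ (l, 0)) = (l, 0) from (pp M s).apply_symm_apply _]
      by_cases h3 : (pp M s p).1 = l
      · rw [if_pos h3, if_pos (h2.1 h3)]
        by_cases h4 : p.2 = 0
        · rw [if_pos h4, if_pos ((h.snd hs).2 h4)]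
        · rw [if_neg h4, if_neg fun h5 => h4 ((h.snd hs).1 h5)]
      · rw [if_neg h3, if_neg fun h4 => h3 (h2.2 h4)]
    rw [inv_inv] at h1
    have h2 := mem_centralizer_iff.1 hc _ ⟨(pp M s⁻¹ (l, 0)).1, rfl⟩
    change (sg h ((pp M s⁻¹ (l, 0)).1)).val * c = c * (sg h ((pp M s⁻¹ (l, 0)).1)).val at h2
    rw [← h1] at h2
    calc (sg h l).val * (s * c * s⁻¹) = s * (s⁻¹ * (sg h l).val * s * c) * s⁻¹ := by group
      _ = s * (c * (s⁻¹ * (sg h l).val * s)) * s⁻¹ := by rw [h2]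
      _ = s * c * s⁻¹ * (sg h l).val := by group
  have h1 : ¬ 2 ∣ (S : Subgroup G).relIndex (normalizer (C : Set G)) := by
    intro h2
    apply S.not_dvd_index
    rw [← relIndex_mul_index hSN]
    exact Dvd.dvd.mul_right h2 _
  have h2 := NO3b.UMethod.not_dvd_inf hSN h1 le_normalizer le_rfl
  rw [inf_comm] at h2
  have h3 : X ≤ C := fun x hx => mem_centralizer_iff.2 (by
    rintro _ ⟨l, rfl⟩
    exact (hXc x hx l).symm)
  have h4 : ¬ 2 ∣ (S0 h).relIndex X := by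
    intro h5
    apply h2
    have h6 := relIndex_mul_relIndex (S0 h) X C hSX h3
    change 2 ∣ (S0 h).relIndex C
    rw [← h6]
    exact Dvd.dvd.mul_right h5 _
  obtain ⟨n, hn⟩ := IsPGroup.iff_card.1 hX
  have h5 : (S0 h).relIndex X ∣ 2 ^ n := by
    rw [← hn]
    exact relIndex_dvd_card _ _
  obtain ⟨i, -, hi⟩ := (Nat.dvd_prime_pow Nat.prime_two).1 h5
  rcases Nat.eq_zero_or_pos i with h6 | h6
  · rw [h6, pow_zero] at hi
    exact relIndex_eq_one.1 hi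
  · exact absurd (by rw [hi]; exact dvd_pow_self 2 (by omega)) h4

/-! ### LEMMA R -/

theorem E_sum (M : SymK (S : Subgroup G) P V ⊥ k m) {ι : Type*} (f : ι → ZM P) (t : Finset ι) (hf : ∀ i ∈ t, (f i).val ∈ V) :
    (∑ i ∈ t, f i).val ∈ V ∧ ∀ p, E M (∑ i ∈ t, f i).val p = ∑ i ∈ t, E M (f i).val p := by
  classical
  induction t using Finset.induction_on with
  | empty =>
    refine ⟨by rw [Finset.sum_empty]; exact one_mem V, fun p => ?_⟩
    rw [Finset.sum_empty, ZM.val_zero, Half.SymA.E_one, Finset.sum_empty]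
  | insert a t ha ih =>
    obtain ⟨h1, h2⟩ := ih fun i hi => hf i (Finset.mem_insert_of_mem hi)
    have h3 := hf a (Finset.mem_insert_self _ _)
    refine ⟨by rw [Finset.sum_insert ha, ZM.val_add]; exact mul_mem h3 h1, fun p => ?_⟩
    rw [Finset.sum_insert ha, ZM.val_add, Half.SymA.E_mul M h3 h1, h2, Finset.sum_insert ha]

/-- `σ_l` is a sum of duads `{x, x₀}`, `x ≠ 0` -/
theorem sg_eq_sum (h : Sit S P V M) (l : Fin k) (x₀ : Fin (2 ^ m + 1)) :
    sg h l = ∑ x ∈ Finset.univ.filter (fun x : Fin (2 ^ m + 1) => x ≠ 0),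
      (⟨pr M (l, x) (l, x₀), h.VZ (pr_mem M _ _)⟩ : ZM P) := by
  classical
  obtain ⟨h1, h2⟩ := E_sum M (fun x : Fin (2 ^ m + 1) => (⟨pr M (l, x) (l, x₀), h.VZ (pr_mem M _ _)⟩ : ZM P))
    (Finset.univ.filter (fun x : Fin (2 ^ m + 1) => x ≠ 0)) fun i _ => pr_mem M _ _
  refine eq_of_E h (sg_mem h l) h1 fun p => ?_
  rw [h2, E_sg]
  rw [Finset.sum_congr rfl fun x _ => E_pr M (show ((l, x) : Pt k m).1 = ((l, x₀) : Pt k m).1 from rfl) p,
    Finset.sum_add_distrib, Finset.sum_const]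
  have hcard : (Finset.univ.filter (fun x : Fin (2 ^ m + 1) => x ≠ 0)).card = 2 ^ m := by
    rw [Finset.filter_ne' Finset.univ (0 : Fin (2 ^ m + 1)), Finset.card_erase_of_mem (Finset.mem_univ _),
      Finset.card_univ, Fintype.card_fin]
    rfl
  have h6 : ((2 ^ m : ℕ) : ZMod 2) = 0 := by
    rw [ZMod.natCast_eq_zero_iff]
    exact dvd_pow_self 2 (by have := h.hm; omega)
  rw [hcard, nsmul_eq_mul, h6, zero_mul, add_zero]
  by_cases h3 : p.1 = l
  · rw [if_pos h3]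
    by_cases h4 : p.2 = 0
    · rw [if_pos h4]
      refine (Finset.sum_eq_zero fun x hx => if_neg ?_).symm
      rintro rfl
      exact (Finset.mem_filter.1 hx).2 h4
    · rw [if_neg h4, Finset.sum_eq_single_of_mem p.2 (Finset.mem_filter.2 ⟨Finset.mem_univ _, h4⟩)]
      · rw [if_pos (show p = (l, p.2) from Prod.ext h3 rfl)]
      · intro b _ hb
        refine if_neg ?_
        rintro h5
        exact hb (congrArg Prod.snd h5).symm
  · rw [if_neg h3]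
    refine (Finset.sum_eq_zero fun x hx => if_neg ?_).symm
    rintro rfl
    exact h3 rfl

section core

variable [Finite G] (h : Sit S P V M) (hZV : zc (o2 P) ≤ V) {J : Set (Fin k)} {w : G}
  (hw1 : ∀ s ∈ S0 h, w * s * w⁻¹ ∈ S0 h ∧ ∀ p : Pt k m, p.1 ∉ J → pp M (w * s * w⁻¹) p = pp M s p)
  (hw2 : ∀ s ∈ S0 h, w⁻¹ * s * w ∈ S0 h ∧ ∀ p : Pt k m, p.1 ∉ J → pp M (w⁻¹ * s * w) p = pp M s p)

omit [Finite G] in
include hw2 in
theorem coreK {v : G} (hv : v ∈ V) (hvJ : ∀ p : Pt k m, p.1 ∈ J → E M v p = 0) {s : G} (hs : s ∈ S0 h)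
    (hsJ : ∀ p : Pt k m, p.1 ∉ J → pp M s p = p) : s * (w * v * w⁻¹) = w * v * w⁻¹ * s := by
  obtain ⟨h1, h2⟩ := hw2 s hs
  have h3 : w⁻¹ * s * w * v = v * (w⁻¹ * s * w) := by
    rw [h.comm_iff (h.SP (S0_le h h1)) hv]
    intro p
    by_cases hp : p.1 ∈ J
    · rw [hvJ p hp, hvJ _ (by rw [S0_fst h h1]; exact hp)]
    · rw [h2 p hp, hsJ p hp]
  calc s * (w * v * w⁻¹) = w * (w⁻¹ * s * w * v) * w⁻¹ := by group
    _ = w * (v * (w⁻¹ * s * w)) * w⁻¹ := by rw [h3]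
    _ = w * v * w⁻¹ * s := by group

omit [Finite G] in
include hZV hw2 in
theorem coreV {v : G} (hv : v ∈ V) (hvJ : ∀ p : Pt k m, p.1 ∈ J → E M v p = 0) : w * v * w⁻¹ ∈ V := by
  have h1 : ∀ g ∈ o2 P, g * (w * v * w⁻¹) = w * v * w⁻¹ * g := fun g hg =>
    coreK h hw2 hv hvJ (Q_le_S0 h hg) fun p _ => by rw [(h.mem_Q_iff (h.QS hg)).1 hg]; rfl
  refine hZV (mem_zc.2 ⟨h.cQ (mem_centralizer_iff.2 h1), h1, ?_⟩)
  rw [pow_two]
  calc w * v * w⁻¹ * (w * v * w⁻¹) = w * (v * v) * w⁻¹ := by group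
    _ = 1 := by rw [h.Vsq hv]; group

include hZV hw2 in
theorem coreJ {v : G} (hv : v ∈ V) (hvJ : ∀ p : Pt k m, p.1 ∈ J → E M v p = 0) {p q : Pt k m} (hp : p.1 ∈ J)
    (hpq : p.1 = q.1) (h0 : p.2 = 0 ↔ q.2 = 0) : E M (w * v * w⁻¹) p = E M (w * v * w⁻¹) q := by
  by_cases hp0 : p.2 = 0
  · rw [show p = q from Prod.ext hpq (hp0.trans (h0.1 hp0).symm)]
  · obtain ⟨s, hs, h1, h2⟩ := exists_in h hpq hp0 fun h3 => hp0 (h0.2 h3)
    have h3 := coreK h hw2 hv hvJ hs fun r hr => h2 r fun h4 => hr (h4 ▸ hp)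
    rw [← h1]
    exact ((h.comm_iff (h.SP (S0_le h hs)) (coreV h hZV hw2 hv hvJ)).1 h3 p).symm

include hZV hw1 hw2 in
/-- the conjugate of a duad of the summand `l` is supported in the summand `l` -/
theorem coreD {l : Fin k} (hl : l ∉ J) {x y : Fin (2 ^ m + 1)} (hx : x ≠ 0) (hy : y ≠ 0) :
    w * pr M (l, x) (l, y) * w⁻¹ ∈ V ∧ ∀ p : Pt k m, p.1 ≠ l → E M (w * pr M (l, x) (l, y) * w⁻¹) p = 0 := by
  have hsup : ∀ x y : Fin (2 ^ m + 1), ∀ p : Pt k m, p.1 ∈ J → E M (pr M (l, x) (l, y)) p = 0 := by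
    intro x y p hp
    have h1 : p.1 ≠ l := fun h2 => hl (h2 ▸ hp)
    exact E_pr_of_ne M (show ((l, x) : Pt k m).1 = ((l, y) : Pt k m).1 from rfl) (fun h2 => h1 (congrArg Prod.fst h2))
      fun h2 => h1 (congrArg Prod.fst h2)
  refine ⟨coreV h hZV hw2 (pr_mem M _ _) (hsup x y), fun p hp => ?_⟩
  obtain ⟨s, hs, h1, h2⟩ := exists_in h (p := (l, x)) (q := (l, y)) rfl hx hy
  have h3 : pp M s (l, 0) = (l, 0) :=
    Prod.ext (S0_fst h hs (l, 0)) ((h.snd (S0_le h hs)).2 rfl)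
  set v := pr M (l, x) (l, 0) with hv
  have h4 : s * v * s⁻¹ = pr M (l, 0) (l, y) := by
    rw [hv, h.conj_pr (h.SP (S0_le h hs)) (show ((l, x) : Pt k m).1 = ((l, 0) : Pt k m).1 from rfl), h1, h3,
      pr_comm M (show ((l, y) : Pt k m).1 = ((l, 0) : Pt k m).1 from rfl)]
  have h5 : pr M (l, x) (l, y) = v * (s * v * s⁻¹) := by
    rw [h4, hv, pr_mul M (show ((l, x) : Pt k m).1 = ((l, 0) : Pt k m).1 from rfl)
      (show ((l, 0) : Pt k m).1 = ((l, y) : Pt k m).1 from rfl)]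
  obtain ⟨h6, h7⟩ := hw1 s hs
  set t := w * s * w⁻¹ with ht
  have hu : w * v * w⁻¹ ∈ V := coreV h hZV hw2 (pr_mem M _ _) (hsup x 0)
  have h8 : w * pr M (l, x) (l, y) * w⁻¹ = w * v * w⁻¹ * (t * (w * v * w⁻¹) * t⁻¹) := by
    rw [h5, ht]; group
  have htP := h.SP (S0_le h h6)
  rw [h8, Half.SymA.E_mul M hu (h.amb.conj_mem htP hu), E_conj' htP hu]
  set r := (pp M t)⁻¹ p with hr
  have h9 : pp M t r = p := (pp M t).apply_symm_apply p
  have h10 : r.1 = p.1 := by rw [← S0_fst h h6 r, h9]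
  have h11 : E M (w * v * w⁻¹) p = E M (w * v * w⁻¹) r := by
    by_cases hpJ : p.1 ∈ J
    · refine coreJ h hZV hw2 (pr_mem M _ _) (hsup x 0) hpJ h10.symm ?_
      rw [← h9, h.snd (S0_le h h6)]
    · have h12 : pp M t r = r := by
        rw [h7 r (by rw [h10]; exact hpJ), h2 r (by rw [h10]; exact hp)]
      rw [← h9, h12]
  rw [h11]
  exact CharTwo.add_self_eq_zero _

include hZV hw1 hw2 in
/-- `w` centralises `σ_l`, `l ∉ J` -/
theorem core {l : Fin k} (hl : l ∉ J) : w * (sg h l).val = (sg h l).val * w := by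
  let W : AddSubgroup (ZM P) :=
    { carrier := {v | v.val ∈ V ∧ w * v.val * w⁻¹ ∈ V ∧ ∀ p : Pt k m, p.1 ≠ l → E M (w * v.val * w⁻¹) p = 0}
      zero_mem' := ⟨one_mem V, by
        rw [ZM.val_zero, mul_one, mul_inv_cancel]
        exact one_mem V, fun p _ => by
        rw [ZM.val_zero, mul_one, mul_inv_cancel]
        exact Half.SymA.E_one M p⟩
      add_mem' := by
        rintro a b ⟨ha, ha1, ha2⟩ ⟨hb, hb1, hb2⟩
        have e : w * (a + b).val * w⁻¹ = w * a.val * w⁻¹ * (w * b.val * w⁻¹) := by rw [ZM.val_add]; group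
        refine ⟨mul_mem ha hb, ?_, fun p hp => ?_⟩
        · rw [e]; exact mul_mem ha1 hb1
        · rw [e, Half.SymA.E_mul M ha1 hb1, ha2 p hp, hb2 p hp, add_zero]
      neg_mem' := by
        rintro a ⟨ha, ha1, ha2⟩
        have e : w * (-a).val * w⁻¹ = (w * a.val * w⁻¹)⁻¹ := by rw [ZM.val_neg]; group
        refine ⟨inv_mem ha, ?_, fun p hp => ?_⟩
        · rw [e]; exact inv_mem ha1
        · rw [e, Half.SymA.E_inv M ha1, ha2 p hp] }
  obtain ⟨x₀, hx₀⟩ := exists_ne_zero h.hm1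
  have h1 : sg h l ∈ W := by
    rw [sg_eq_sum h l x₀]
    refine AddSubgroup.sum_mem _ fun x hx => ?_
    obtain ⟨h2, h3⟩ := coreD h hZV hw1 hw2 hl (Finset.mem_filter.1 hx).2 hx₀
    exact ⟨pr_mem M _ _, h2, h3⟩
  obtain ⟨-, h2, h3⟩ := h1
  set u := w * (sg h l).val * w⁻¹ with hu
  -- `u` is fixed by `S0`
  have h4 : ∀ s ∈ S0 h, s * u = u * s := by
    intro s hs
    have h5 := S0_comm h (hw2 s hs).1 l
    calc s * u = w * (w⁻¹ * s * w * (sg h l).val) * w⁻¹ := by rw [hu]; group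
      _ = w * ((sg h l).val * (w⁻¹ * s * w)) * w⁻¹ := by rw [h5]
      _ = u * s := by rw [hu]; group
  have h5 : ∀ x y : Fin (2 ^ m + 1), x ≠ 0 → y ≠ 0 → E M u (l, x) = E M u (l, y) := by
    intro x y hx hy
    obtain ⟨s, hs, h6, -⟩ := exists_in h (p := (l, x)) (q := (l, y)) rfl hx hy
    rw [← h6]
    exact ((h.comm_iff (h.SP (S0_le h hs)) h2).1 (h4 s hs) _).symm
  have h6 : E M u (l, 0) = 0 :=
    Half.SymA.even0 M h.hm1 h2 (i := l) (c := E M u (l, x₀)) fun x hx => h5 x x₀ hx hx₀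
  have h7 : u = (sg h l).val := by
    refine Half.SymA.inj M h2 (sg_mem h l) fun p => ?_
    rw [E_sg]
    by_cases hp : p.1 = l
    · rw [if_pos hp]
      by_cases hp0 : p.2 = 0
      · rw [if_pos hp0, show p = (l, 0) from Prod.ext hp hp0]; exact h6
      · rw [if_neg hp0]
        rcases Half.SymA.zmod2 (E M u (l, x₀)) with h8 | h8
        · exfalso
          have h9 : u = 1 := by
            refine Half.SymA.inj M h2 (one_mem V) fun q => ?_
            rw [Half.SymA.E_one]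
            by_cases hq : q.1 = l
            · by_cases hq0 : q.2 = 0
              · rw [show q = (l, 0) from Prod.ext hq hq0]; exact h6
              · rw [show q = (l, q.2) from Prod.ext hq rfl, h5 _ _ hq0 hx₀]; exact h8
            · exact h3 q hq
          have h10 : (sg h l).val = 1 := by
            rw [hu] at h9
            have h11 : (sg h l).val = w⁻¹ * (w * (sg h l).val * w⁻¹) * w := by group
            rw [h11, h9]; group
          have h11 := E_sg h l (l, x₀)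
          rw [h10, Half.SymA.E_one, if_pos rfl, if_neg hx₀] at h11
          exact zero_ne_one h11
        · rw [show p = (l, p.2) from Prod.ext hp rfl, h5 _ _ hp0 hx₀]; exact h8
    · rw [if_neg hp]; exact h3 p hp
  rw [hu] at h7
  rw [← mul_inv_eq_iff_eq_mul]
  exact h7

end core

/-- **LEMMA R** (bb OMEGA #20414 (2)). -/
theorem lemR [Finite G] (h : Sit S P V M) (hZV : zc (o2 P) ≤ V) (J : Set (Fin k)) {Y : Subgroup G} (hY : IsPGroup 2 Y)
    (hn : S0 h ≤ normalizer (Y : Set G)) (h1 : ∀ y ∈ Y, y ∈ S0 h → ∀ p : Pt k m, p.1 ∉ J → pp M y p = p)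
    (h2 : ∀ j ∈ J, ∀ y ∈ Y, y * (sg h j).val = (sg h j).val * y) : Y ≤ S0 h := by
  have : Fact (Nat.Prime 2) := ⟨Nat.prime_two⟩
  have hS02 : IsPGroup 2 (S0 h) := S.isPGroup'.to_le (S0_le h)
  have hX : IsPGroup 2 (S0 h ⊔ Y : Subgroup G) := hS02.to_sup_of_normal_right' hY hn
  by_contra hcon
  have hlt : S0 h < S0 h ⊔ Y := by
    refine lt_of_le_of_ne le_sup_left fun h3 => hcon ?_
    rw [h3]
    exact le_sup_right
  obtain ⟨x, hx, hx1, hx2⟩ := Involutions.BaerSuzuki.exists_mem_normalizer_of_lt hX hlt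
  obtain ⟨s₀, hs₀, w, hw, rfl⟩ := mem_sup_norm hn hx
  have hwn : w ∈ normalizer (S0 h : Set G) := by
    have h3 : w = s₀⁻¹ * (s₀ * w) := by group
    rw [h3]
    exact mul_mem (inv_mem (le_normalizer hs₀)) hx2
  have hwS : w ∉ S0 h := fun h3 => hx1 (mul_mem hs₀ h3)
  have key : ∀ y ∈ Y, y ∈ normalizer (S0 h : Set G) → ∀ s ∈ S0 h,
      y * s * y⁻¹ ∈ S0 h ∧ ∀ p : Pt k m, p.1 ∉ J → pp M (y * s * y⁻¹) p = pp M s p := by
    intro y hy hyn s hs
    have h3 : y * s * y⁻¹ ∈ S0 h := (mem_normalizer_iff.1 hyn s).1 hs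
    refine ⟨h3, fun p hp => ?_⟩
    have h4 : y * s * y⁻¹ * s⁻¹ ∈ S0 h := mul_mem h3 (inv_mem hs)
    have h5 : y * s * y⁻¹ * s⁻¹ ∈ Y := by
      have h6 : s * y⁻¹ * s⁻¹ ∈ Y := (mem_normalizer_iff.1 (hn hs) _).1 (inv_mem hy)
      have h7 : y * s * y⁻¹ * s⁻¹ = y * (s * y⁻¹ * s⁻¹) := by group
      rw [h7]
      exact mul_mem hy h6
    have h6 : y * s * y⁻¹ = y * s * y⁻¹ * s⁻¹ * s := by group
    rw [h6, h.mul (h.SP (S0_le h h4)) (h.SP (S0_le h hs)), Equiv.Perm.mul_apply]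
    exact h1 _ h5 h4 _ (by rw [S0_fst h hs]; exact hp)
  have hwc : ∀ l, w * (sg h l).val = (sg h l).val * w := by
    intro l
    by_cases hl : l ∈ J
    · exact h2 l hl w hw
    · refine core h hZV (key w hw hwn) (fun s hs => ?_) hl
      have h3 := key w⁻¹ (inv_mem hw) (inv_mem hwn) s hs
      rwa [inv_inv] at h3
  apply hwS
  have hX' : IsPGroup 2 (S0 h ⊔ zpowers w : Subgroup G) :=
    hX.to_le (sup_le_sup_left (zpowers_le.2 hw) _)
  refine syl_S0 h hX' ?_ le_sup_left (mem_sup_right (mem_zpowers w))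
  intro x hx l
  have h3 : S0 h ⊔ zpowers w ≤ centralizer ({(sg h l).val} : Set G) := by
    refine sup_le (fun s hs => ?_) (zpowers_le.2 ?_)
    · rw [mem_centralizer_singleton_iff]; exact S0_comm h hs l
    · rw [mem_centralizer_singleton_iff]; exact hwc l
  exact mem_centralizer_singleton_iff.1 (h3 hx)

/-- LEMMA R (a): `Y ∩ S⁰` trivial on `V`. -/
theorem lemR_a [Finite G] (h : Sit S P V M) (hZV : zc (o2 P) ≤ V) {Y : Subgroup G} (hY : IsPGroup 2 Y)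
    (hn : S0 h ≤ normalizer (Y : Set G)) (h1 : ∀ y ∈ Y, y ∈ S0 h → y ∈ o2 P) : Y ≤ S0 h :=
  lemR h hZV ∅ hY hn (fun y hy hy0 p _ => by
    rw [(h.mem_Q_iff (S0_le h hy0)).1 (h1 y hy hy0)]
    rfl) fun j hj => absurd hj (Set.notMem_empty j)

/-- LEMMA R (b): `Y ∩ S⁰` trivial on the summands `≠ i`, `Y` centralises `σ_i`. -/
theorem lemR_b [Finite G] (h : Sit S P V M) (hZV : zc (o2 P) ≤ V) (i : Fin k) {Y : Subgroup G} (hY : IsPGroup 2 Y)
    (hn : S0 h ≤ normalizer (Y : Set G)) (h1 : ∀ y ∈ Y, y ∈ S0 h → ∀ p : Pt k m, p.1 ≠ i → pp M y p = p)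
    (h2 : ∀ y ∈ Y, y * (sg h i).val = (sg h i).val * y) : Y ≤ S0 h :=
  lemR h hZV {i} hY hn (fun y hy hy0 p hp => h1 y hy hy0 p hp) fun j hj y hy => by
    rw [Set.mem_singleton_iff.1 hj]
    exact h2 y hy

/-! ### (HF) -/

/-- A 2-group `O` normalised by `Sym(Ω_l)`: the elements of `O ∩ P` which fix the summand `l` act trivially on it. -/
theorem fix_block [Finite G] (h : Sit S P V M) {O : Subgroup G} (hO : IsPGroup 2 O) (l : Fin k)
    (hn : ∀ g ∈ P, (∀ p : Pt k m, p.1 ≠ l → pp M g p = p) → g ∈ normalizer (O : Set G)) {y : G} (hy : y ∈ O) (hyP : y ∈ P)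
    (hyl : (pp M y (l, 0)).1 = l) {p : Pt k m} (hp : p.1 = l) : pp M y p = p := by
  classical
  let O1 : Subgroup G :=
    { carrier := {g | g ∈ O ∧ g ∈ P ∧ (pp M g (l, 0)).1 = l}
      mul_mem' := by
        rintro a b ⟨ha, ha1, ha2⟩ ⟨hb, hb1, hb2⟩
        refine ⟨mul_mem ha hb, mul_mem ha1 hb1, ?_⟩
        rw [h.mul ha1 hb1, Equiv.Perm.mul_apply]
        rw [show (pp M a (pp M b (l, 0))).1 = (pp M a (l, 0)).1 from h.fst ha1 hb2, ha2]
      one_mem' := ⟨one_mem _, one_mem _, by rw [h.one]; rfl⟩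
      inv_mem' := by
        rintro a ⟨ha, ha1, ha2⟩
        refine ⟨inv_mem ha, inv_mem ha1, ?_⟩
        rw [h.inv ha1]
        have h1 : pp M a ((pp M a)⁻¹ (l, 0)) = (l, 0) := (pp M a).apply_symm_apply _
        have h2 : (pp M a ((pp M a)⁻¹ (l, 0))).1 = (pp M a (l, 0)).1 := by rw [h1, ha2]
        exact (pp_fst_iff h.amb h.hm1 ha1 (M := M)).1 h2 }
  have hO1 : ∀ g, g ∈ O1 ↔ g ∈ O ∧ g ∈ P ∧ (pp M g (l, 0)).1 = l := fun g => Iff.rfl
  -- `O1` fixes a point of the summand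
  obtain ⟨g, hg, hgS⟩ := Half.SymA.exists_conj_le S h.SP (hO.to_le (fun x hx => ((hO1 x).1 hx).1) : IsPGroup 2 O1)
    fun x hx => ((hO1 x).1 hx).2.1
  set z : Pt k m := (pp M g)⁻¹ ((pp M g (l, 0)).1, 0) with hz
  have hgz : pp M g z = ((pp M g (l, 0)).1, 0) := (pp M g).apply_symm_apply _
  have hzl : z.1 = l := by
    have h1 : (pp M g z).1 = (pp M g (l, 0)).1 := by rw [hgz]
    exact (pp_fst_iff h.amb h.hm1 hg (M := M)).1 h1
  have hfix : ∀ x ∈ O1, pp M x z = z := by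
    intro x hx
    obtain ⟨hx1, hx2, hx3⟩ := (hO1 x).1 hx
    have h1 := hgS x hx
    have h2 : pp M (g * x * g⁻¹) (pp M g z) = pp M g (pp M x z) := by
      rw [h.conj hg hx2, Equiv.Perm.mul_apply, Equiv.Perm.mul_apply,
        show (pp M g)⁻¹ (pp M g z) = z from (pp M g).symm_apply_apply z]
    have h3 : (pp M g (pp M x z)).2 = 0 := by
      rw [← h2]
      exact (h.snd h1).2 (by rw [hgz])
    have h4 : (pp M g (pp M x z)).1 = (pp M g z).1 := by
      refine h.fst hg ?_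
      rw [show (pp M x z).1 = (pp M x (l, 0)).1 from h.fst hx2 hzl, hx3, hzl]
    have h5 : pp M g (pp M x z) = pp M g z := Prod.ext h4 (by rw [h3, hgz])
    exact (pp M g).injective h5
  have hyO : y ∈ O1 := (hO1 y).2 ⟨hy, hyP, hyl⟩
  by_contra hne
  have hzp : z ≠ p := by
    rintro h1
    exact hne (by rw [← h1]; exact hfix y hyO)
  have hswap : ∀ r : Pt k m, r.1 ≠ l → Equiv.swap z p r = r := fun r hr =>
    Equiv.swap_apply_of_ne_of_ne (fun h1 => hr (by rw [h1, hzl])) fun h1 => hr (by rw [h1, hp])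
  obtain ⟨t, ht, hτ⟩ := h.exists_pp (π := Equiv.swap z p) (by
    intro r
    by_cases h1 : r = z
    · rw [h1, Equiv.swap_apply_left, hp, hzl]
    · by_cases h2 : r = p
      · rw [h2, Equiv.swap_apply_right, hp, hzl]
      · rw [Equiv.swap_apply_of_ne_of_ne h1 h2])
  have htn : t ∈ normalizer (O : Set G) := hn t ht fun r hr => by rw [hτ]; exact hswap r hr
  have hz' : pp M (t * y * t⁻¹) z = Equiv.swap z p (pp M y p) := by
    rw [h.conj ht hyP, hτ, Equiv.Perm.mul_apply, Equiv.Perm.mul_apply, Equiv.swap_inv, Equiv.swap_apply_left]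
  have h1 : t * y * t⁻¹ ∈ O1 := by
    refine (hO1 _).2 ⟨(mem_normalizer_iff.1 htn y).1 hy, mul_mem (mul_mem ht hyP) (inv_mem ht), ?_⟩
    have hP : t * y * t⁻¹ ∈ P := mul_mem (mul_mem ht hyP) (inv_mem ht)
    rw [show (pp M (t * y * t⁻¹) (l, 0)).1 = (pp M (t * y * t⁻¹) z).1 from h.fst hP hzl.symm, hz', ← hτ,
      show (pp M t (pp M y p)).1 = (pp M t (l, 0)).1 from h.fst ht (by
        rw [show (pp M y p).1 = (pp M y (l, 0)).1 from h.fst hyP hp, hyl])]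
    rw [show (pp M t (l, 0)).1 = (pp M t z).1 from h.fst ht hzl.symm, hτ, Equiv.swap_apply_left, hp]
  have h2 := hfix _ h1
  rw [hz', Equiv.swap_apply_of_ne_of_ne ?_ hne] at h2
  · have h3 : pp M y p = pp M y z := by rw [h2, hfix y hyO]
    exact hzp ((pp M y).injective h3).symm
  · intro h3
    have h4 : pp M y p = pp M y z := by rw [h3, hfix y hyO]
    exact hzp ((pp M y).injective h4).symm

/-- **(HF)** (bb OMEGA #20414 (3)): a 2-subgroup normalised by all elements of `P` inside the summands is in `O₂(P)`. -/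
theorem HF [Finite G] (h : Sit S P V M) (hZV : zc (o2 P) ≤ V) {O : Subgroup G} (hO : IsPGroup 2 O)
    (hn : ∀ g ∈ P, (∀ p : Pt k m, (pp M g p).1 = p.1) → g ∈ normalizer (O : Set G)) : O ≤ o2 P := by
  have h1 : ∀ y ∈ O, y ∈ S0 h → y ∈ o2 P := by
    intro y hy hy0
    have hyP := h.SP (S0_le h hy0)
    rw [h.mem_Q_iff (S0_le h hy0)]
    ext1 p
    refine fix_block h hO p.1 (fun g hg hg1 => hn g hg fun r => ?_) hy hyP (S0_fst h hy0 _) rfl
    by_cases hr : r.1 = p.1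
    · by_contra h2
      have h3 : (pp M g r).1 ≠ p.1 := by rw [← hr]; exact h2
      have h4 := hg1 _ h3
      exact h2 (congrArg Prod.fst ((pp M g).injective h4))
    · rw [hg1 r hr]
  have h2 : O ≤ S0 h := lemR_a h hZV hO (fun s hs => hn s (h.SP (S0_le h hs)) (S0_fst h hs)) h1
  exact fun y hy => h1 y hy (h2 hy)

/-- (HF) for `O₂(M₀)`. -/
theorem HF_o2 [Finite G] (h : Sit S P V M) (hZV : zc (o2 P) ≤ V) {M₀ : Subgroup G}
    (hM : ∀ g ∈ P, (∀ p : Pt k m, (pp M g p).1 = p.1) → g ∈ M₀)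
    (hc : M₀ ⊓ centralizer (o2 M₀ : Set G) ≤ o2 M₀) : o2 M₀ ≤ o2 P ∧ V ≤ zc (o2 M₀) := by
  have h1 : o2 M₀ ≤ o2 P := HF h hZV (o2_isPGroup M₀) fun g hg hg1 => le_normalizer_o2 M₀ (hM g hg hg1)
  have h2 : ∀ v ∈ V, ∀ g ∈ o2 M₀, g * v = v * g := fun v hv g hg =>
    (mem_zc.1 (h.VZ hv)).2.1 g (h1 hg)
  refine ⟨h1, fun v hv => mem_zc.2 ⟨hc ⟨hM v (h.SP (h.VS hv)) fun p => ?_, mem_centralizer_iff.2 (h2 v hv)⟩, h2 v hv,
    h.amb.sq v hv⟩⟩
  rw [(h.eq_one_iff (h.SP (h.VS hv))).2 (mem_centralizer_iff.2 fun w hw => h.Vcomm hw hv)]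
  rfl

/-- (HF) for a 2-local subgroup. -/
theorem HF_nor [Finite G] (hG : IsCharacteristicTwoType G) (h : Sit S P V M) (hZV : zc (o2 P) ≤ V) {B : Subgroup G}
    (hB : IsPGroup 2 B) (hB1 : B ≠ ⊥)
    (hM : ∀ g ∈ P, (∀ p : Pt k m, (pp M g p).1 = p.1) → g ∈ normalizer (B : Set G)) :
    o2 (normalizer (B : Set G)) ≤ o2 P ∧ V ≤ zc (o2 (normalizer (B : Set G))) :=
  HF_o2 h hZV hM (MinSimple.Basic.char2_normalizer hG hB hB1)

end Cfsg.Agent.Omega.IId.SwB
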