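import Cfsg.Agent.Omega.IId.SymWr.SylN.OfOne
import Cfsg.Agent.Omega.IId.Big.Of
import Cfsg.Agent.Omega.IId.MatchSym
import Cfsg.Agent.Omega.ThmC.TwoEnd
import Cfsg.Agent.Omega.ThmC.TwoOf

/-!
# II.d, `SwBig`: a pair of a sum of even-subset modules and a sum of natural modules (helper142, bb OMEGA #20824)

`M : SymK S P V ⊥ k m`, `M' : NatK F' S' P' V' ⊥ k'`, `Pair S S' P P'`.

* `exists_nat` : `|F'| = 2`, `[V, V'] = ⟨n⟩ = line M' i`, `n = pr M p q`; `SN S P V M`, `CC M'`, `Big.Fr S' (fac M')`, and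
  some `w ∈ fac M' i` commutes with no `v ∈ V` which separates `p` and `q`.
-/

set_option autoImplicit false
set_option linter.unusedSectionVars false

namespace Cfsg.Agent.Omega.IId.SwB

open Subgroup Pointwise Cfsg Cfsg.Agent.ZN Cfsg.Agent.ZN.ChoiceBase
open Cfsg.Agent.Omega.MinPar Cfsg.Agent.Omega.Frame Cfsg.Agent.Omega.FFThm Cfsg.Agent.Omega.FrameMulti
open Cfsg.Agent.Omega.Half (Amb amb_of_loc)
open Cfsg.Agent.Omega.Half.SymA (Pt E Mv pm sep)
open Cfsg.Agent.Omega.IId.SymWr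
open Cfsg.Agent.MinSimple.VModule (zc_le_zl)
open Triangle (KK KK_le_o2 mem_KK mem_cent mem_zpowers_iff_of_sq)
open Big.Supply (zl_le_KK_line)

universe u

variable {G : Type u} [Group G] [Finite G] {S S' : Sylow 2 G} {P P' : Subgroup G} {k k' m : ℕ}

/-- **The natural partner of a sum of even-subset modules**, with `p, q` different from the fixed points of `S`. -/
theorem exists_nat' {F' : Type} [Field F'] [Finite F'] [CharP F' 2] (hc : IsCharacteristicTwoType G)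
    (hp : Pair S S' P P') (hT : NoOver (zl (S : Subgroup G) P) P) (hT' : NoOver (zl (S' : Subgroup G) P') P')
    (hk : 1 ≤ k) (hm : 2 ≤ m) (M : SymK (S : Subgroup G) P (zl (S : Subgroup G) P) ⊥ k m)
    (M' : NatK F' (S' : Subgroup G) P' (zl (S' : Subgroup G) P') ⊥ k') :
    ∃ (i : Fin k') (p q : Pt k m), p.1 = q.1 ∧ p ≠ q ∧ p.2 ≠ 0 ∧ q.2 ≠ 0 ∧ Nat.card F' = 2 ∧ pr M p q ∈ line M' i ∧
      SN S P (zl (S : Subgroup G) P) M ∧ CC M' ∧ Big.Fr (S' : Subgroup G) (fac M') ∧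
      (∃ w ∈ fac M' i, ∀ v ∈ zl (S : Subgroup G) P, E M v p ≠ E M v q → v * w ≠ w * v) ∧
      ⁅zl (S : Subgroup G) P, zl (S' : Subgroup G) P'⁆ = line M' i := by
  classical
  obtain ⟨I, hI⟩ := exists_ind M' hp.symm.le (hp.symm.off hc hT)
  have hX : Mix M' M I := ⟨hp.symm, hc, by omega, hp.off hc hT', hI⟩
  have hF := hX.card_two
  have hIne : I.Nonempty := lines_ne_bot (M := M') ((hI.commutator_eq hX.V'P) ▸ hp.symm.ne)
  obtain ⟨i, hi⟩ := hIne
  obtain ⟨w, hw, hwe⟩ := exists_fac M' i ![0, 1]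
  have hwi : M'.e w i 1 ≠ 0 := by rw [hwe]; exact one_ne_zero
  obtain ⟨p, q, hpq, hpq1, hp2, hq2, hact, hz⟩ := hX.exists_pair hi hw hwi
  obtain ⟨n, hn, hn1⟩ := exists_line M' i
  have hE := hz n hn hn1
  obtain ⟨a₀, ha₀, hna⟩ := (hX.ind.mem_line_iff hX.V'P hi hw hwi).1 hn
  have hnV : n ∈ zl (S : Subgroup G) P := hna ▸ comm_mem hX.amb' (hX.VP' hw.1) ha₀
  have hnp : n = pr M p q := Half.SymA.inj M hnV (pr_mem M p q) fun r => by rw [hE, E_pr M hpq1]
  have hS : Sit S P (zl (S : Subgroup G) P) M := Sit.of hc hp.star M (by omega) hm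
  have hC' : CC M' := ThmC.TwoOf.cc ThmC.stmt hc hp.star' M' hF
  have hn' : pr M p q ∈ line M' i := hnp ▸ hn
  have hn1' : pr M p q ≠ 1 := hnp ▸ hn1
  have hV'K : zl (S' : Subgroup G) P' ≤ KK (pr M p q) := zl_le_KK_line hp.star' hC' hF hn' hn1'
  have hwP : w ∈ P := hX.VP' hw.1
  have hwp : pp M w = Equiv.swap p q := pp_eq hS.amb hS.hm1 hwP hact
  have hSN : SN S P (zl (S : Subgroup G) P) M := SN.of_one hS hc ⟨p, q, hpq1, hpq, w, hV'K hw.1, hwp⟩
  have hVK : zl (S : Subgroup G) P ≤ KK (pr M p q) := hS.V_le_KK hpq1 hpq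
  -- `w` moves the elements which separate `p` and `q`
  have hsep : ∀ v ∈ zl (S : Subgroup G) P, E M v p ≠ E M v q → v * w ≠ w * v := by
    intro v hv hne h0
    have h1 := hact v hv p
    rw [← h0, mul_inv_cancel_right, Equiv.swap_apply_left] at h1
    exact hne h1.symm
  obtain ⟨v, hv, hv1, hv2⟩ := sep M hS.hm1 hpq
  have hvne : v * w ≠ w * v := hsep v hv (by rw [hv1, hv2]; exact one_ne_zero)
  have hfr : Big.Fr (S' : Subgroup G) (fac M') := Big.fr_of hc hp.star' hC' hF (zc_le_zl _ _)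
    (line_le M' i hn') hn1' ⟨w, hw, v, hVK hv, hvne⟩
  refine ⟨i, p, q, hpq1, hpq, hp2, hq2, hF, hn', hSN, hC', hfr, ⟨w, hw, hsep⟩, ?_⟩
  -- `[V, V'] = ⟨n⟩`
  have hnn : pr M p q * pr M p q = 1 := hS.Vsq (pr_mem M p q)
  have hV'o : zl (S' : Subgroup G) P' ≤ o2 (centralizer ({pr M p q} : Set G)) := hV'K.trans
    (KK_le_o2 hnn (MinSimple.Basic.char2_centralizer hc (by rw [pow_two]; exact hnn) hn1'))
  have hle : ⁅zl (S : Subgroup G) P, zl (S' : Subgroup G) P'⁆ ≤ line M' i := by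
    rw [commutator_le]
    intro a ha b hb
    have h1 := (mem_KK.1 (hVK ha)).2 b (hV'o hb)
    rw [line_eq_zpowers M' hF hn' hn1', commutatorElement_def]
    exact h1
  refine le_antisymm hle ?_
  rw [line_eq_zpowers M' hF hn' hn1', zpowers_le]
  obtain ⟨x, hx, hx1⟩ : ∃ x ∈ ⁅zl (S : Subgroup G) P, zl (S' : Subgroup G) P'⁆, x ≠ 1 := by
    by_contra hcon
    push Not at hcon
    exact hp.ne ((eq_bot_iff_forall _).2 hcon)
  rcases mem_line_two M' hF hn' hn1' (hle hx) with h0 | h0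
  · exact absurd h0 hx1
  · rwa [h0] at hx

/-- **The natural partner of a sum of even-subset modules.** -/
theorem exists_nat {F' : Type} [Field F'] [Finite F'] [CharP F' 2] (hc : IsCharacteristicTwoType G)
    (hp : Pair S S' P P') (hT : NoOver (zl (S : Subgroup G) P) P) (hT' : NoOver (zl (S' : Subgroup G) P') P')
    (hk : 1 ≤ k) (hm : 2 ≤ m) (_hk' : 1 ≤ k') (M : SymK (S : Subgroup G) P (zl (S : Subgroup G) P) ⊥ k m)
    (M' : NatK F' (S' : Subgroup G) P' (zl (S' : Subgroup G) P') ⊥ k') :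
    ∃ (i : Fin k') (p q : Pt k m), p.1 = q.1 ∧ p ≠ q ∧ Nat.card F' = 2 ∧ pr M p q ∈ line M' i ∧
      SN S P _ M ∧ CC M' ∧ Big.Fr (S' : Subgroup G) (fac M') ∧
      (∃ w ∈ fac M' i, ∀ v ∈ zl (S : Subgroup G) P, E M v p ≠ E M v q → v * w ≠ w * v) ∧
      ⁅zl (S : Subgroup G) P, zl (S' : Subgroup G) P'⁆ = line M' i := by
  obtain ⟨i, p, q, h1, h2, -, -, h3⟩ := exists_nat' hc hp hT hT' hk hm M M'
  exact ⟨i, p, q, h1, h2, h3⟩

end Cfsg.Agent.Omega.IId.SwB
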