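import Cfsg.Agent.Omega.IId.SymWr.SylN.OfOne
import Cfsg.Agent.Omega.IId.LFour.SwTwo
import Cfsg.Agent.Omega.IId.SymWr.Ht.Fr

/-!
# II.d, `SwBig`: a pair of two sums of even-subset modules (142's #20066 frame)

`exists_sym` : a pair `(P, P')`, `P` of type `S_{2^m+1} wr k`, `P'` of type `S_{2^m'+1} wr k'`, `m, m' ≥ 2`, has a
common duad `n = pr M p q = pr M' p' q'`, both sides satisfy the hypotheses `SN` of THEOREM SYL_n, and `v ∈ V`, `w ∈ V'`
do not commute if `v` separates `p, q` and `w` separates `p', q'`.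
-/

set_option autoImplicit false

namespace Cfsg.Agent.Omega.IId.SwB

open Subgroup Pointwise Cfsg Cfsg.Agent.ZN Cfsg.Agent.Omega.MinPar Cfsg.Agent.Omega.FFThm
open Cfsg.Agent.Omega.Half.SymA (Pt E Mv pm)
open Cfsg.Agent.Omega.IId.SymWr Cfsg.Agent.Omega.IId.LFour
open Triangle (KK KK_conj KK_le_o2 mem_cent mem_KK mem_zpowers_iff_of_sq)
open Big (cz qz conj_of_comm comm_of_conj)

universe u

variable {G : Type u} [Group G]

/-- a duad is `pr M p q` -/
theorem eq_pr_of_duad {T P V : Subgroup G} {k m : ℕ} {M : SymK T P V ⊥ k m} {n : G} {p q : Pt k m}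
    (h : Duad M n p q) : n = pr M p q := by
  refine Half.SymA.inj M h.1 (pr_mem M p q) fun r => ?_
  rw [h.2.2.2 r, E_pr M h.2.2.1]

variable [Finite G]

/-- `V' ≤ O₂(C_G(n))` acts on `V` inside `⟨(p q)⟩` -/
theorem pp_of_le {S : Sylow 2 G} {P V V' : Subgroup G} {k m : ℕ} {M : SymK (S : Subgroup G) P V ⊥ k m}
    (h : SymWr.Sit S P V M) {p q : Pt k m} (hpq : p.1 = q.1) (hne : p ≠ q)
    (hV' : V' ≤ o2 (centralizer ({pr M p q} : Set G))) {w : G} (hw : w ∈ V') :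
    w ∈ P ∧ (pp M w = 1 ∨ pp M w = Equiv.swap p q) :=
  ⟨h.qle hpq hne (hV' hw), h.qpp hpq hne (hV' hw)⟩

/-- elements of `V` with the same value at `p` and `q` commute with `V'` -/
theorem comm_of_eq {S : Sylow 2 G} {P V V' : Subgroup G} {k m : ℕ} {M : SymK (S : Subgroup G) P V ⊥ k m}
    (h : SymWr.Sit S P V M) {p q : Pt k m} (hpq : p.1 = q.1) (hne : p ≠ q)
    (hV' : V' ≤ o2 (centralizer ({pr M p q} : Set G))) {v w : G} (hv : v ∈ V) (hw : w ∈ V')
    (hE : E M v p = E M v q) : v * w = w * v := by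
  obtain ⟨hwP, h1⟩ := pp_of_le h hpq hne hV' hw
  symm
  rw [h.comm_iff hwP hv]
  intro r
  rcases h1 with e | e
  · rw [e]; rfl
  · rw [e]
    exact E_swap M hE r

/-- **Two sums of even-subset modules**: the common duad. -/
theorem exists_sym {S S' : Sylow 2 G} {P P' : Subgroup G} {k k' m m' : ℕ} (hc : IsCharacteristicTwoType G)
    (hp : Pair S S' P P')
    (hT : NoOver (zl (S : Subgroup G) P) P) (hT' : NoOver (zl (S' : Subgroup G) P') P')
    (hk : 1 ≤ k) (hm : 2 ≤ m) (hk' : 1 ≤ k') (hm' : 2 ≤ m')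
    (M : SymK (S : Subgroup G) P (zl (S : Subgroup G) P) ⊥ k m)
    (M' : SymK (S' : Subgroup G) P' (zl (S' : Subgroup G) P') ⊥ k' m') :
    ∃ (p q : Pt k m) (p' q' : Pt k' m'), p.1 = q.1 ∧ p ≠ q ∧ p'.1 = q'.1 ∧ p' ≠ q' ∧ pr M p q = pr M' p' q' ∧
      SN S P _ M ∧ SN S' P' _ M' ∧
      ∀ v ∈ zl (S : Subgroup G) P, ∀ w ∈ zl (S' : Subgroup G) P', E M v p ≠ E M v q → E M' w p' ≠ E M' w q' →
        v * w ≠ w * v := by
  obtain ⟨n, ⟨p, q, hd⟩, p', q', hd'⟩ := exists_duad hc hp hT hT' M M'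
  have h : SymWr.Sit S P _ M := SymWr.Sit.of hc hp.star M hk hm
  have h' : SymWr.Sit S' P' _ M' := SymWr.Sit.of hc hp.star' M' hk' hm'
  have hpq := hd.2.2.1
  have hne := hd.2.1
  have hpq' := hd'.2.2.1
  have hne' := hd'.2.1
  have e1 := eq_pr_of_duad hd
  have e2 := eq_pr_of_duad hd'
  have e : pr M p q = pr M' p' q' := e1.symm.trans e2
  have hKO : KK (pr M p q) ≤ o2 (centralizer ({pr M p q} : Set G)) :=
    KK_le_o2 (h.Vsq (pr_mem M p q))
      (MinSimple.Basic.char2_centralizer hc (by rw [pow_two]; exact h.Vsq (pr_mem M p q)) (pr_ne_one M hpq hne))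
  have hVK := h.V_le_KK hpq hne
  have hVK' : zl (S' : Subgroup G) P' ≤ KK (pr M p q) := by
    rw [e]
    exact h'.V_le_KK hpq' hne'
  have hVO' := hVK'.trans hKO
  have hVO : zl (S : Subgroup G) P ≤ o2 (centralizer ({pr M' p' q'} : Set G)) := by
    rw [← e]
    exact hVK.trans hKO
  -- noncommuting elements
  obtain ⟨v₀, hv₀, w₀, hw₀, hcc⟩ : ∃ v ∈ zl (S : Subgroup G) P, ∃ w ∈ zl (S' : Subgroup G) P', v * w ≠ w * v := by
    by_contra hcon
    push Not at hcon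
    apply hp.ne
    rw [eq_bot_iff, commutator_le]
    intro v hv w hw
    rw [mem_bot, commutatorElement_eq_one_iff_mul_comm]
    exact hcon v hv w hw
  have hE₀ : E M v₀ p ≠ E M v₀ q := fun e0 => hcc (comm_of_eq h hpq hne hVO' hv₀ hw₀ e0)
  have hE₀' : E M' w₀ p' ≠ E M' w₀ q' := fun e0 => hcc (comm_of_eq h' hpq' hne' hVO hw₀ hv₀ e0).symm
  have hw₀p : pp M w₀ = Equiv.swap p q := by
    refine (pp_of_le h hpq hne hVO' hw₀).2.resolve_left fun e0 => hcc ?_
    rw [h.eq_one_iff (pp_of_le h hpq hne hVO' hw₀).1] at e0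
    exact mem_centralizer_iff.1 e0 _ hv₀
  have hv₀p : pp M' v₀ = Equiv.swap p' q' := by
    refine (pp_of_le h' hpq' hne' hVO hv₀).2.resolve_left fun e0 => hcc ?_
    rw [h'.eq_one_iff (pp_of_le h' hpq' hne' hVO hv₀).1] at e0
    exact (mem_centralizer_iff.1 e0 _ hw₀).symm
  refine ⟨p, q, p', q', hpq, hne, hpq', hne', e, SN.of_one h hc ⟨p, q, hpq, hne, w₀, hVK' hw₀, hw₀p⟩,
    SN.of_one h' hc ⟨p', q', hpq', hne', v₀, ?_, hv₀p⟩, ?_⟩
  · rw [← e]
    exact hVK hv₀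
  · intro v hv w hw hE hE'
    have k2 : ∀ x y z w : ZMod 2, x ≠ y → z ≠ w → x + z = y + w := by decide
    -- `v v₀` and `w w₀` are in the perps
    have h1 : E M (v * v₀) p = E M (v * v₀) q := by
      rw [Half.SymA.E_mul M hv hv₀, Half.SymA.E_mul M hv hv₀]
      exact k2 _ _ _ _ hE hE₀
    have h2 : E M' (w * w₀) p' = E M' (w * w₀) q' := by
      rw [Half.SymA.E_mul M' hw hw₀, Half.SymA.E_mul M' hw hw₀]
      exact k2 _ _ _ _ hE' hE₀'
    have h3 := comm_of_eq h hpq hne hVO' (mul_mem hv hv₀) hw h1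
    have h4 := comm_of_eq h' hpq' hne' hVO (mul_mem hw hw₀) hv₀ h2
    intro h5
    -- `v₀` commutes with `w`
    have h6 : v₀ * w = w * v₀ := by
      have h7 : v * (v₀ * w) = v * (w * v₀) := by
        rw [← mul_assoc, h3, ← mul_assoc, ← mul_assoc, ← h5]
      exact mul_left_cancel h7
    apply hcc
    have h8 : w * (w₀ * v₀) = w * (v₀ * w₀) := by
      rw [← mul_assoc, h4, ← mul_assoc, ← mul_assoc, h6]
    exact (mul_left_cancel h8).symm

end Cfsg.Agent.Omega.IId.SwB
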