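import Cfsg.Agent.Omega.IId.SwB.Core
import Cfsg.Agent.Omega.IId.SwB.PartSym
import Cfsg.Agent.Omega.IId.SwB.PartNat
import Cfsg.Agent.Omega.IId.SMain
import Cfsg.Agent.Omega.IId.SymMain

/-!
# `SwBig K` (project OMEGA, II.d; head: helper142)

`free_false` : a mutual pair with a member of type `S_{2^m+1} wr k`, `k ≥ 2`, `m ≥ 2`, both members free, does not exist.
Texts: helper839, 116, 123, 157, 290, 334, 573, 605, 611, 666, 926 (bb OMEGA); Lean: helper66, 125, 142, 157, 229, 242,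
254, 290, 334, 376, 442, 554, 573, 666, 770, 897, 910, 916, 926 and others.
-/

set_option autoImplicit false

namespace Cfsg.Agent.Omega.IId.SwB

open Subgroup Cfsg Cfsg.Agent.ZN.ChoiceBase Cfsg.Agent.Omega.MinPar Cfsg.Agent.Omega.FFThm
open Cfsg.Agent.ZN (o2 zc zl)
open Cfsg.Agent.Omega.Frame Cfsg.Agent.Omega.FrameMulti
open Cfsg.Agent.Omega.FrameFF (cv Free)

universe u

/-- **No pair with a member of type `S_{2^m+1} wr k`, `k ≥ 2`, `m ≥ 2`, both members free.** -/
theorem free_false {G : Type u} [Group G] [Finite G] {S S' : Sylow 2 G} {P P' : Subgroup G}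
    (hc : IsCharacteristicTwoType G) (hp : Pair S S' P P') (t1 : Typed (S : Subgroup G) P)
    (t2 : Typed (S' : Subgroup G) P') {k m : ℕ} (hk : 2 ≤ k) (hm : 2 ≤ m) (hS : IsSym (S : Subgroup G) P k m)
    (hf : Free (S : Subgroup G) P) (hf' : Free (S' : Subgroup G) P') : False := by
  obtain ⟨M⟩ := hS
  rw [show cv (S : Subgroup G) P = ⊥ from hf] at M
  rcases t2.cases with ⟨k', hk', hN'⟩ | ⟨k', m', hk', hm', hS'⟩
  · obtain ⟨F', i1', i2', i3', ⟨M'⟩⟩ := hN'
    rw [show cv (S' : Subgroup G) P' = ⊥ from hf'] at M'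
    obtain ⟨i, p, q, hpq, pq, hF, hr, sn, hC, hfr, hne, -⟩ :=
      exists_nat hc hp t1.noOver t2.noOver (by omega) hm hk' M M'
    exact false_nat sn hk hpq pq hp.star' hC hF hfr hr hne
  · obtain ⟨M'⟩ := hS'
    rw [show cv (S' : Subgroup G) P' = ⊥ from hf'] at M'
    obtain ⟨p, q, p', q', hpq, pq, hpq', pq', en, sn, sn', hne⟩ :=
      exists_sym hc hp t1.noOver t2.noOver (by omega) hm hk' hm' M M'
    exact false_sym sn sn' hk hpq pq hpq' pq' en hne

/-- **`SwBig K`.** -/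
theorem swBig (K : Cls.{u}) : SwBig K := by
  intro G _ _ S S' hH P P' hp k m hk hm hS hf hf' _
  obtain ⟨t1, t2⟩ := Sym.typed_of hH.typed hp
  exact (free_false hH.ctx.char2 hp t1 t2 hk hm hS hf hf').elim

end Cfsg.Agent.Omega.IId.SwB
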