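import Cfsg.Agent.Omega.IId.M4.Mixed
import Cfsg.Agent.Omega.IId.Cv.MixedZ

/-!
# II.d, `SwBig`: the mixed case, abstract form (helper290 #20414 (8); helper994 #17943 (2), helper349)

`Side M r T D` : `M : RMod F L N`, `|F| = 2`, `⟨r⟩` a line of `L`, `T` a 2-group in `N ⊓ C_G(r)`, Sylow in `C_G(r)`,
`D` induces `SL₂(2)` on `L`, `Ω₁Z(T) ≤ ⟨r⟩ C(D)`, `O₂(H) ≤ C(L)` for `H ≥ T, D`.

* `Side.conj` : conjugates by `C_G(r)`;
* **`mixed_false`** : two sides for the same `r`, `|Ω₁Z(T) ∩ C(D)| ≥ 4`, the conjugates of `L` under `C_G(r)` commute,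
  those of `L'` commute, `L` and `L'` do not: impossible.
-/

set_option autoImplicit false
set_option linter.unusedSectionVars false

namespace Cfsg.Agent.Omega.IId.SwB

open Subgroup Cfsg
open Cfsg.Agent.Lib.SL2Mat Cfsg.Agent.Omega.BTwo Cfsg.Agent.Omega.Mix Cfsg.Agent.Omega.MixOne
open Cfsg.Agent.Omega.NatPair (ap)
open Cfsg.Agent.ZN (zc)
open Cfsg.Agent.Omega.IId.M4 (MixedT LL_comm exists_cj_eq)

universe u

variable {G : Type u} [Group G]

/-- **One side.** -/
structure Side {F : Type*} [Field F] {L N : Subgroup G} (M : RMod F L N) (r : G) (T D : Subgroup G) : Prop where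
  two : Nat.card F = 2
  line : ∃ w : Fin 2 → F, w ≠ 0 ∧ ∀ g, g ∈ M.line w ↔ g = 1 ∨ g = r
  r1 : r ≠ 1
  T2 : IsPGroup 2 T
  TN : T ≤ N
  TC : T ≤ centralizer ({r} : Set G)
  odd : ¬ 2 ∣ T.relIndex (centralizer ({r} : Set G))
  LT : L ≤ T
  DN : D ≤ N
  lift : ∀ A : Matrix.SpecialLinearGroup (Fin 2) F, ∃ g ∈ D, M.Ind g A
  split : ∀ f ∈ zc T, ∃ u, (u = 1 ∨ u = r) ∧ ∃ z, f = u * z ∧ ∀ g ∈ D, g * z = z * g
  loc : ∀ H : Subgroup G, T ≤ H → D ≤ H → O2 H ≤ centralizer (L : Set G)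

namespace Side

variable {F : Type*} [Field F] {L N : Subgroup G} {M : RMod F L N} {r : G} {T D : Subgroup G}

theorem card_L (A : Side M r T D) : Nat.card L = 4 := by
  rw [M.card_V, A.two]
  norm_num

theorem rL (A : Side M r T D) : r ∈ L := by
  obtain ⟨w, -, hw⟩ := A.line
  exact M.line_le w ((hw r).2 (Or.inr rfl))

/-- `V ≤ O₂(M)` for `O₂(M) ≤ C(V)` -/
theorem le_of_cent [Finite G] {H : Subgroup G} (hH : Char2 H) (hL : L ≤ H) (h : O2 H ≤ centralizer (L : Set G)) :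
    L ≤ O2 H := by
  intro v hv
  exact hH v (hL hv) fun q hq => (mem_centralizer_iff.1 (h hq) v hv)

/-- conjugates -/
theorem conj (A : Side M r T D) {c : G} (hc : c ∈ centralizer ({r} : Set G)) :
    Side (M.conj c) r (cj c T) (cj c D) := by
  have hcr : c * r * c⁻¹ = r := by
    rw [mem_centralizer_singleton_iff.1 hc, mul_inv_cancel_right]
  have hcC : cj c (centralizer ({r} : Set G)) = centralizer ({r} : Set G) :=
    cj_eq_self_iff.2 (le_normalizer hc)
  obtain ⟨w, hw, hl⟩ := A.line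
  refine ⟨A.two, ⟨w, hw, fun g => ?_⟩, A.r1, A.T2.map _, cj_mono A.TN, ?_, ?_, cj_mono A.LT, cj_mono A.DN, ?_, ?_, ?_⟩
  · rw [M.conj_line]
    change g ∈ cj c (M.line w) ↔ _
    rw [mem_cj, hl]
    constructor
    · rintro (h | h)
      · left
        have : g = c * (c⁻¹ * g * c) * c⁻¹ := by group
        rw [this, h]; group
      · right
        have : g = c * (c⁻¹ * g * c) * c⁻¹ := by group
        rw [this, h, hcr]
    · rintro (rfl | rfl)
      · left; group
      · right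
        calc c⁻¹ * g * c = c⁻¹ * (c * g * c⁻¹) * c := by rw [hcr]
          _ = g := by group
  · rw [← hcC]; exact cj_mono A.TC
  · have h1 : (cj c T).relIndex (cj c (centralizer ({r} : Set G))) = T.relIndex (centralizer ({r} : Set G)) :=
      relIndex_map_map_of_injective _ _ (MulAut.conj c).injective
    rw [hcC] at h1
    rw [h1]
    exact A.odd
  · intro B
    obtain ⟨g, hg, h1⟩ := A.lift B
    refine ⟨c * g * c⁻¹, conj_mem_cj hg, fun x => ?_⟩
    change c * g * c⁻¹ * (c * M.e x * c⁻¹) * (c * g * c⁻¹)⁻¹ = c * M.e (ap B x) * c⁻¹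
    rw [← h1]
    group
  · intro f hf
    have hf' : c⁻¹ * f * c ∈ zc T := by
      obtain ⟨h1, h2, h3⟩ := MinSimple.VModule.mem_zc.1 hf
      refine MinSimple.VModule.mem_zc.2 ⟨?_, fun y hy => ?_, ?_⟩
      · rw [← mem_cj]; exact h1
      · have h5 := h2 _ (conj_mem_cj (g := c) hy)
        calc y * (c⁻¹ * f * c) = c⁻¹ * (c * y * c⁻¹ * f) * c := by group
          _ = c⁻¹ * (f * (c * y * c⁻¹)) * c := by rw [h5]
          _ = c⁻¹ * f * c * y := by group
      · calc (c⁻¹ * f * c) ^ 2 = c⁻¹ * (f ^ 2) * c := by rw [pow_two, pow_two]; group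
          _ = 1 := by rw [h3]; group
    obtain ⟨u, hu, z, e, hz⟩ := A.split _ hf'
    refine ⟨u, hu, c * z * c⁻¹, ?_, fun g hg => ?_⟩
    · have hcu : c * u * c⁻¹ = u := by
        rcases hu with rfl | rfl
        · group
        · exact hcr
      calc f = c * (c⁻¹ * f * c) * c⁻¹ := by group
        _ = c * (u * z) * c⁻¹ := by rw [e]
        _ = c * u * c⁻¹ * (c * z * c⁻¹) := by group
        _ = u * (c * z * c⁻¹) := by rw [hcu]
    · rw [mem_cj] at hg
      have h1 := hz _ hg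
      calc g * (c * z * c⁻¹) = c * (c⁻¹ * g * c * z) * c⁻¹ := by group
        _ = c * (z * (c⁻¹ * g * c)) * c⁻¹ := by rw [h1]
        _ = c * z * c⁻¹ * g := by group
  · intro H hT hD
    have e1 : cj c (cj c⁻¹ H) = H := cj_cj_inv c H
    have hT' : T ≤ cj c⁻¹ H := by
      have := cj_mono (g := c⁻¹) hT
      rwa [cj_inv_cj] at this
    have hD' : D ≤ cj c⁻¹ H := by
      have := cj_mono (g := c⁻¹) hD
      rwa [cj_inv_cj] at this
    have h1 := A.loc _ hT' hD'
    intro q hq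
    rw [mem_centralizer_iff]
    intro v hv
    have hv' : c⁻¹ * v * c ∈ L := by rw [← mem_cj]; exact hv
    have hq' : c⁻¹ * q * c ∈ O2 (cj c⁻¹ H) := by
      rw [← cj_O2, mem_cj, inv_inv]
      have e : c * (c⁻¹ * q * c) * c⁻¹ = q := by group
      rw [e]; exact hq
    have h2 := mem_centralizer_iff.1 (h1 hq') _ hv'
    calc v * q = c * (c⁻¹ * v * c * (c⁻¹ * q * c)) * c⁻¹ := by group
      _ = c * (c⁻¹ * q * c * (c⁻¹ * v * c)) * c⁻¹ := by rw [h2]
      _ = q * v := by group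

end Side

section both

variable [Finite G] {F F' : Type} [Field F] [Finite F] [CharP F 2] [Field F'] [Finite F'] [CharP F' 2]
  {L N L' N' : Subgroup G} {M : RMod F L N} {M' : RMod F' L' N'} {r : G} {T D T' D' : Subgroup G}

/-- two sides over the same `T` -/
theorem mixed_false_of_eq (hG : IsCharacteristicTwoType G) (A : Side M r T D) (B : Side M' r T D')
    (pair : ∃ a d : G, (a ∈ zc T ∧ ∀ g ∈ D, g * a = a * g) ∧ (d ∈ zc T ∧ ∀ g ∈ D, g * d = d * g) ∧
      a ≠ 1 ∧ d ≠ 1 ∧ a * d ≠ 1)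
    (h1 : ∀ g ∈ centralizer ({r} : Set G), ∀ v ∈ L, ∀ w ∈ L, v * (g * w * g⁻¹) = g * w * g⁻¹ * v)
    (h2 : ∀ g ∈ centralizer ({r} : Set G), ∀ v ∈ L', ∀ w ∈ L', v * (g * w * g⁻¹) = g * w * g⁻¹ * v)
    (hne : ∃ g ∈ centralizer ({r} : Set G), ∃ v ∈ L, ∃ w ∈ L', v * (g * w * g⁻¹) ≠ g * w * g⁻¹ * v) : False := by
  obtain ⟨w, hw, mem_R⟩ := A.line
  obtain ⟨w', hw', mem_R'⟩ := B.line
  set R := M.line w with hR
  have hRR : R = M'.line w' := by
    ext x
    rw [mem_R, mem_R']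
  have hRn : normalizer (R : Set G) = centralizer ({r} : Set G) := MixOne.normalizer_two mem_R A.r1
  have hcj : ∀ {k : G}, k ∈ centralizer ({r} : Set G) → cj k R = R := fun hk =>
    cj_eq_self_iff.2 (by rw [hRn]; exact hk)
  have m : MixedT M M' R T := by
    refine ⟨⟨w, hw, rfl⟩, ⟨w', hw', hRR⟩, A.T2, A.TN, B.TN, ?_, ?_,
      fun K hK hK1 => Mix.char2_normalizer hG hK hK1, LL_comm ?_, LL_comm ?_, ?_, ?_⟩
    · rw [hRn]; exact A.TC
    · rw [hRn]; exact A.odd
    · intro k hk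
      rw [hRn] at hk
      exact h1 k hk
    · intro k hk
      rw [hRn] at hk
      exact h2 k hk
    · obtain ⟨g, hg, v, hv, w₂, hw₂, hvw⟩ := hne
      exact ⟨v, V_le_LL _ _ hv, g * w₂ * g⁻¹, cj_le_LL (V := L') (hcj hg) (conj_mem_cj hw₂), hvw⟩
    · intro K hK k1 k2 k3
      by_contra hK1
      rw [hRn] at k3
      have hch := Mix.char2_normalizer hG hK hK1
      have hT : T ≤ normalizer (K : Set G) := A.TC.trans k3
      have a1 := A.loc _ hT (A.DN.trans k1)
      have b1 := B.loc _ hT (B.DN.trans k2)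
      have a2 := Side.le_of_cent hch (A.LT.trans hT) a1
      obtain ⟨g, hg, v, hv, w₂, hw₂, hvw⟩ := hne
      have hg' := k3 hg
      have h3 : g⁻¹ * v * g ∈ O2 (normalizer (K : Set G)) :=
        conj_inv_mem_of_normalizer (le_normalizer_O2 _ hg') (a2 hv)
      have h4 := mem_centralizer_iff.1 (b1 h3) w₂ hw₂
      apply hvw
      calc v * (g * w₂ * g⁻¹) = g * (g⁻¹ * v * g * w₂) * g⁻¹ := by group
        _ = g * (w₂ * (g⁻¹ * v * g)) * g⁻¹ := by rw [h4]
        _ = g * w₂ * g⁻¹ * v := by group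
  -- `z`
  obtain ⟨a, d, ⟨haz, hag⟩, ⟨hdz, hdg⟩, ha1, hd1, had⟩ := pair
  have hr2 : r * r = 1 := M.sq A.rL
  obtain ⟨z, hz1, hzz, hzg, hzg'⟩ : ∃ z, z ≠ 1 ∧ z ∈ zc T ∧ (∀ g ∈ D, g * z = z * g) ∧ ∀ g ∈ D', g * z = z * g := by
    obtain ⟨u, hu, x, ex, hx⟩ := B.split a haz
    obtain ⟨u', hu', x', ex', hx'⟩ := B.split d hdz
    rcases hu with hu2 | hu2
    · rw [hu2, one_mul] at ex
      subst ex
      exact ⟨a, ha1, haz, hag, hx⟩
    rcases hu' with hu2' | hu2'
    · rw [hu2', one_mul] at ex'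
      subst ex'
      exact ⟨d, hd1, hdz, hdg, hx'⟩
    rw [hu2] at ex
    rw [hu2'] at ex'
    refine ⟨a * d, had, mul_mem haz hdz, fun g hg => ?_, fun g hg => ?_⟩
    · have h1 := hag g hg
      have h2 := hdg g hg
      calc g * (a * d) = (g * a) * d := by group
        _ = a * (g * d) := by rw [h1]; group
        _ = a * d * g := by rw [h2]; group
    · have hrT : ∀ y ∈ zc T, r * y = y * r := fun y hy =>
        (MinSimple.VModule.mem_zc.1 hy).2.1 r (A.LT A.rL)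
      have e1 : a * d = x * x' := by
        have hxr : x * r = r * x := by
          have h1 := hrT a haz
          rw [ex] at h1
          have h2 : r * (r * x) = r * (x * r) := by rw [h1]; group
          exact (mul_left_cancel h2).symm
        calc a * d = r * (x * r) * x' := by rw [ex, ex']; group
          _ = (r * r) * x * x' := by rw [hxr]; group
          _ = x * x' := by rw [hr2, one_mul]
      have h1 := hx g hg
      have h2 := hx' g hg
      rw [e1]
      calc g * (x * x') = (g * x) * x' := by group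
        _ = x * (g * x') := by rw [h1]; group
        _ = x * x' * g := by rw [h2]; group
  obtain ⟨-, hzc, hz2⟩ := MinSimple.VModule.mem_zc.1 hzz
  have hzT : ∀ t ∈ T, t * z = z * t := fun t ht => hzc t ht
  have hTz : T ≤ centralizer ({z} : Set G) := fun t ht => mem_centralizer_singleton_iff.2 (hzT t ht)
  have hc2 := A.loc _ hTz fun g hg => mem_centralizer_singleton_iff.2 (hzg g hg)
  have hchz : Char2 (centralizer ({z} : Set G)) := by
    have hk : ∀ g, g ∈ zpowers z ↔ g = 1 ∨ g = z := by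
      intro g
      rw [mem_zpowers_iff]
      constructor
      · rintro ⟨n, rfl⟩
        rcases Int.even_or_odd' n with ⟨m, hm | hm⟩
        · left
          rw [hm, zpow_mul, zpow_two, ← pow_two, hz2, one_zpow]
        · right
          rw [hm, zpow_add, zpow_mul, zpow_two, ← pow_two, hz2, one_zpow, one_mul, zpow_one]
      · rintro (rfl | rfl)
        · exact ⟨0, zpow_zero _⟩
        · exact ⟨1, zpow_one _⟩
    have h3 := Mix.char2_normalizer hG (K := zpowers z)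
      (MinSimple.Basic.isPGroup_zpowers hz2) (fun h => hz1 (zpowers_eq_bot.mp h))
    rwa [MixOne.normalizer_two hk hz1] at h3
  have hc1 := Side.le_of_cent hchz (A.LT.trans hTz) hc2
  have hD1 := m.mem_iInf (L := D) A.lift hzT hzg
  have hD2 := m.symm.mem_iInf (L := D') B.lift hzT hzg'
  obtain ⟨p, p', hp, hp', t⟩ := m.two
  refine t.false_of_z A.r1 (by rw [hp]; exact mem_R) A.card_L B.card_L hD1 hD2 ⟨hc1 A.rL, fun q hq => ?_⟩
  exact (mem_centralizer_iff.1 (hc2 hq) r A.rL)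

/-- **The mixed case is impossible.** -/
theorem mixed_false (hG : IsCharacteristicTwoType G) (A : Side M r T D) (B : Side M' r T' D')
    (pair : ∃ a d : G, (a ∈ zc T ∧ ∀ g ∈ D, g * a = a * g) ∧ (d ∈ zc T ∧ ∀ g ∈ D, g * d = d * g) ∧
      a ≠ 1 ∧ d ≠ 1 ∧ a * d ≠ 1)
    (h1 : ∀ g ∈ centralizer ({r} : Set G), ∀ v ∈ L, ∀ w ∈ L, v * (g * w * g⁻¹) = g * w * g⁻¹ * v)
    (h2 : ∀ g ∈ centralizer ({r} : Set G), ∀ v ∈ L', ∀ w ∈ L', v * (g * w * g⁻¹) = g * w * g⁻¹ * v)
    (hne : ∃ v ∈ L, ∃ w ∈ L', v * w ≠ w * v) : False := by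
  obtain ⟨c, hc, hcT⟩ := exists_cj_eq A.TC B.TC A.T2 B.T2 A.odd B.odd
  have B' := B.conj hc
  rw [hcT] at B'
  refine mixed_false_of_eq hG A B' pair h1 ?_ ?_
  · intro g hg v hv w hw
    change v ∈ cj c L' at hv
    change w ∈ cj c L' at hw
    rw [mem_cj] at hv hw
    have h3 := h2 (c⁻¹ * g * c) (mul_mem (mul_mem (inv_mem hc) hg) hc) _ hv _ hw
    calc v * (g * w * g⁻¹) = c * ((c⁻¹ * v * c) * ((c⁻¹ * g * c) * (c⁻¹ * w * c) * (c⁻¹ * g * c)⁻¹)) * c⁻¹ := by
          group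
      _ = c * ((c⁻¹ * g * c) * (c⁻¹ * w * c) * (c⁻¹ * g * c)⁻¹ * (c⁻¹ * v * c)) * c⁻¹ := by rw [h3]
      _ = g * w * g⁻¹ * v := by group
  · obtain ⟨v, hv, w, hw, hvw⟩ := hne
    refine ⟨c⁻¹, inv_mem hc, v, hv, c * w * c⁻¹, conj_mem_cj hw, ?_⟩
    have e : c⁻¹ * (c * w * c⁻¹) * c⁻¹⁻¹ = w := by group
    rw [e]
    exact hvw

end both

end Cfsg.Agent.Omega.IId.SwB
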