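/-
Copyright (c) 2026 CFSG team. Released under Apache 2.0 license.
Authors: helper157 (#20066), helper334 (#20345 (III)), typed by helper897
-/
import Cfsg.Agent.Omega.IId.SwB.MixedInst
import Cfsg.Agent.Omega.IId.SwB.CjM
import Cfsg.Agent.Omega.IId.SymWr.SylN.Syl
import Cfsg.Agent.Omega.IId.SymWr.LMain
import Cfsg.Agent.Omega.IId.M4.Mixed

/-!
# The mixed partner: two modules of type `S_{2^m+1}` (project OMEGA, II.d, SwBig)

`h : SN S P V M`, `h' : SN S' P' V' M'`, a common duad `n`, `[V, V'] ≠ 1`; `N_G(T') ≤ N_G(V')` for `T' = C_{S'}(n')`, and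
`N_G(T')` permutes the two siblings `n'`, `a'` (`NormT`, helper334's (I)).

THEOREM (`sn_sn`): there is a T-T pair of `V` : `[V, V ^ t] ≠ 1` with `t ∈ C_G(n)`, `n` a duad.
-/

set_option autoImplicit false

namespace Cfsg.Agent.Omega.IId.SwB.Mixed

open Subgroup Pointwise Cfsg Cfsg.Agent.ZN Cfsg.Agent.Omega.MinPar Cfsg.Agent.Omega.FFThm
open Cfsg.Agent.Omega.IId.SymWr
open Cfsg.Agent.ZN.ChoiceBase (cj mem_cj cj_mono cj_inf cj_centralizer cj_inv_cj cj_cj_inv cj_normalizer pCore_cj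
  cj_le_iff cj_cj cj_eq_of_mem_normalizer)
open Cfsg.Agent.Omega.Half (Amb amb_of_loc)
open Cfsg.Agent.Omega.Half.SymA (Pt E Mv pm)
open Cfsg.Agent.Omega.TTn.TwoTypes (inv_comm mem_C)
open Cfsg.Agent.MinSimple.VModule (o2_isPGroup)

universe u

variable {G : Type u} [Group G] {P V : Subgroup G} {k m : ℕ}

section four

variable {T : Subgroup G} {M : SymK T P V ⊥ k m} {μ ν : Equiv.Perm (Pt k m)}

/-- the 4-block of `x` -/
theorem four_ne (F : Fours M μ ν) {x : Pt k m} (hx : x.2 ≠ 0) :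
    (μ x).2 ≠ 0 ∧ (ν x).2 ≠ 0 ∧ (μ (ν x)).2 ≠ 0 ∧ x ≠ μ x ∧ x ≠ ν x ∧ x ≠ μ (ν x) ∧ μ x ≠ ν x ∧ μ x ≠ μ (ν x) ∧
      ν x ≠ μ (ν x) := by
  have h1 : (ν x).2 ≠ 0 := fun e => hx (F.nnz.1 e)
  refine ⟨fun e => hx (F.mnz.1 e), h1, fun e => h1 (F.mnz.1 e), (F.mne x hx).symm, (F.nne x hx).symm, fun e => ?_,
    (F.nmu x hx).symm, fun e => F.nne x hx (μ.injective e).symm, (F.mne _ h1).symm⟩
  have h2 : μ x = ν x := by
    have := congrArg μ e
    rwa [F.msq] at this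
  exact F.nmu x hx h2.symm

end four

/-- `N_G(T)` normalises `V` and permutes `n` and `a` (#20345 (I)). -/
def NormT (S V : Subgroup G) {k m : ℕ} {T P V' : Subgroup G} (M : SymK T P V' ⊥ k m) (μ ν : Equiv.Perm (Pt k m)) :
    Prop :=
  ∀ x : Pt k m, x.2 ≠ 0 → ∀ g ∈ normalizer ((S ⊓ centralizer ({pr M x (μ x)} : Set G) : Subgroup G) : Set G),
    g ∈ normalizer (V : Set G) ∧
      (g * pr M x (μ x) * g⁻¹ = pr M x (μ x) ∨ g * pr M x (μ x) * g⁻¹ = pr M (ν x) (μ (ν x)))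

section sib

variable [Finite G] {S : Sylow 2 G} {M : SymK (S : Subgroup G) P V ⊥ k m} (h : Sit S P V M)
  {μ ν : Equiv.Perm (Pt k m)} (F : Fours M μ ν)

include h F

/-- a 2-element of `S` commuting with a duad `{x, μ x}` commutes with its sibling -/
theorem comm_sib {x : Pt k m} (hx : x.2 ≠ 0) {g : G} (hg : g ∈ (S : Subgroup G))
    (hc : g * pr M x (μ x) = pr M x (μ x) * g) : g * pr M (ν x) (μ (ν x)) = pr M (ν x) (μ (ν x)) * g := by
  obtain ⟨-, h2, -, n1, n2, n3, n4, n5, n6⟩ := four_ne F hx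
  have hgP := h.SP hg
  have h3 : pp M g (ν x) = ν x ∨ pp M g (ν x) = μ (ν x) := by
    have h4 := pair_of_comm h hgP (F.mfst x).symm n1 hc
    rcases h4 with h4 | h4
    · rcases F.neqv g hg x with h5 | h5
      · left; rw [h5, h4.1]
      · right; rw [h5, h4.1]
    · rcases F.neqv g hg x with h5 | h5
      · right; rw [h5, h4.1, F.comm]
      · left; rw [h5, h4.1, ← F.comm, F.msq]
  refine h.comm_pr hgP (F.mfst (ν x)).symm ?_
  rcases h3 with h3 | h3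
  · left; exact ⟨h3, by rw [F.meqv g hg, h3]⟩
  · right; exact ⟨h3, by rw [F.meqv g hg, h3, F.msq]⟩

/-- the element of `S` which swaps the siblings -/
theorem exists_sib {x : Pt k m} (hx : x.2 ≠ 0) : ∃ s ∈ (S : Subgroup G),
    s * pr M x (μ x) * s⁻¹ = pr M (ν x) (μ (ν x)) ∧
      s ∈ normalizer (((S : Subgroup G) ⊓ centralizer ({pr M x (μ x)} : Set G) : Subgroup G) : Set G) := by
  have hν : (ν x).2 ≠ 0 := fun e => hx (F.nnz.1 e)
  obtain ⟨s, hs, h1⟩ := h.trans hx hν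
  have h2 : s * pr M x (μ x) * s⁻¹ = pr M (ν x) (μ (ν x)) := by
    rw [h.conj_pr (h.SP hs) (F.mfst x).symm, h1, F.meqv s hs, h1]
  -- `C_S(n) = C_S(a)`
  have hsib : ∀ g ∈ (S : Subgroup G), g * pr M (ν x) (μ (ν x)) = pr M (ν x) (μ (ν x)) * g →
      g * pr M x (μ x) = pr M x (μ x) * g := by
    intro g hg hc
    have := comm_sib h F hν hg hc
    rwa [F.nsq] at this
  refine ⟨s, hs, h2, ?_⟩
  rw [mem_normalizer_iff]
  intro g
  rw [mem_inf, mem_inf, mem_C, mem_C]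
  have e : s⁻¹ * (s * g * s⁻¹) * s = g := by group
  constructor
  · rintro ⟨hg, hc⟩
    refine ⟨mul_mem (mul_mem hs hg) (inv_mem hs), hsib _ (mul_mem (mul_mem hs hg) (inv_mem hs)) ?_⟩
    rw [← h2]
    calc s * g * s⁻¹ * (s * pr M x (μ x) * s⁻¹) = s * (g * pr M x (μ x)) * s⁻¹ := by group
      _ = s * (pr M x (μ x) * g) * s⁻¹ := by rw [hc]
      _ = s * pr M x (μ x) * s⁻¹ * (s * g * s⁻¹) := by group
  · rintro ⟨hg, hc⟩
    have hg' : g ∈ (S : Subgroup G) := by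
      have := mul_mem (mul_mem (inv_mem hs) hg) hs
      rwa [e] at this
    refine ⟨hg', ?_⟩
    have h3 := comm_sib h F hx hg hc
    rw [← h2] at h3
    have h4 := congrArg (fun t => s⁻¹ * t * s) h3
    have e1 : s⁻¹ * (s * g * s⁻¹ * (s * pr M x (μ x) * s⁻¹)) * s = g * pr M x (μ x) := by group
    have e2 : s⁻¹ * (s * pr M x (μ x) * s⁻¹ * (s * g * s⁻¹)) * s = pr M x (μ x) * g := by group
    simp only [e1, e2] at h4
    exact h4

end sib

section main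

variable [Finite G] {S : Sylow 2 G} {M : SymK (S : Subgroup G) P V ⊥ k m} (h : SN S P V M)
  {μ ν : Equiv.Perm (Pt k m)} (F : Fours M μ ν)
variable {P' V' : Subgroup G} {k' m' : ℕ} {S' : Sylow 2 G} {M' : SymK (S' : Subgroup G) P' V' ⊥ k' m'}
  (h' : SN S' P' V' M') {μ' ν' : Equiv.Perm (Pt k' m')} (F' : Fours M' μ' ν')

include h in
/-- the duads of `SN` -/
theorem sn_ds : Ds (S : Subgroup G) V (pr M) := ds h.toSit h.c2 h.QP

include h in
theorem exists_nonzero : ∃ x : Pt k m, x.2 ≠ 0 := by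
  obtain ⟨c, hc, -⟩ := Half.SymA.exists_third h.hm1 0 0
  exact ⟨(⟨0, h.hk⟩, c), hc⟩

include h F h' F' in
/-- **The mixed pair over the same Sylow 2-subgroup of `C_G(n)`.** -/
theorem same (hB : NormT (S' : Subgroup G) V' M' μ' ν') {x : Pt k m} (hx : x.2 ≠ 0) {x' : Pt k' m'} (hx' : x'.2 ≠ 0)
    (en : pr M' x' (μ' x') = pr M x (μ x))
    (hT : (S' : Subgroup G) ⊓ centralizer ({pr M x (μ x)} : Set G) =
      (S : Subgroup G) ⊓ centralizer ({pr M x (μ x)} : Set G)) {t v u : G}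
    (tn : t * pr M x (μ x) = pr M x (μ x) * t) (hv : v ∈ V) (hu : u ∈ V') (hne : t * v * t⁻¹ * u ≠ u * (t * v * t⁻¹)) :
    ∃ k, k * pr M x (μ x) = pr M x (μ x) * k ∧ ∃ v ∈ V, ∃ u ∈ V, k * v * k⁻¹ * u ≠ u * (k * v * k⁻¹) := by
  obtain ⟨a1, a2, a3, n1, n2, n3, n4, n5, n6⟩ := four_ne F hx
  obtain ⟨b1, b2, b3, m1, m2, m3, m4, m5, m6⟩ := four_ne F' hx'
  obtain ⟨s, hs, hs1, hs2⟩ := exists_sib h.toSit F hx
  have hsN : s ∈ normalizer (((S' : Subgroup G) ⊓ centralizer ({pr M' x' (μ' x')} : Set G) : Subgroup G) : Set G) := by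
    rw [en, hT]; exact hs2
  obtain ⟨hs3, hs4⟩ := hB x' hx' s hsN
  have ea : pr M' (ν' x') (μ' (ν' x')) = pr M (ν x) (μ (ν x)) := by
    rw [en, hs1] at hs4
    refine (hs4.resolve_left fun e => ?_).symm
    rcases pair_eq (F.mfst (ν x)).symm (F.mfst x).symm n6 e with h1 | h1
    · exact n2 h1.1.symm
    · exact n4 h1.1.symm
  have hR : o2 (centralizer (V : Set G)) ≤ (S' : Subgroup G) := by
    have h1 : o2 (centralizer (V : Set G)) ≤ (S : Subgroup G) ⊓ centralizer ({pr M x (μ x)} : Set G) := by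
      refine le_inf (o2_centralizer_le h.toSit) fun g hg => mem_C.2 ?_
      exact (mem_centralizer_iff.1 (MinSimple.VModule.o2_le _ hg) _ (pr_mem M _ _)).symm
    rw [← hT] at h1
    exact h1.trans inf_le_left
  exact Ds.exists_one (sn_ds h') (sn_ds h).toDd (p := x) (q := μ x) (r := ν x) (s := μ (ν x)) (F.mfst x).symm
    (F.nfst x).symm ((F.nfst x).symm.trans (F.mfst (ν x)).symm) n1 n2 n3 n4 n5 n6 (p' := x') (q' := μ' x')
    (r' := ν' x') (s' := μ' (ν' x')) (F'.mfst x').symm (F'.mfst (ν' x')).symm m1 m6 m2 m3 m4 m5 hx' b1 b2 b3 en ea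
    hR (le_normalizer h.toSit (h.SP hs)) hs3 hs1 tn hv hu hne

include h F h' F' in
/-- **The mixed pair of two modules of type `S_{2^m+1}` gives a T-T pair of `V`.** -/
theorem sn_sn (hB : NormT (S' : Subgroup G) V' M' μ' ν') {p q : Pt k m} (hpq : p.1 = q.1) (pq : p ≠ q)
    {p' q' : Pt k' m'} (hpq' : p'.1 = q'.1) (pq' : p' ≠ q') (en : pr M p q = pr M' p' q') {v u : G} (hv : v ∈ V)
    (hu : u ∈ V') (hne : v * u ≠ u * v) :
    ∃ p q : Pt k m, p.1 = q.1 ∧ p ≠ q ∧ ∃ t ∈ centralizer ({pr M p q} : Set G), ∃ v ∈ V, ∃ w ∈ V,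
      v * (t * w * t⁻¹) ≠ (t * w * t⁻¹) * v := by
  obtain ⟨x, hx⟩ := exists_nonzero h
  obtain ⟨x', hx'⟩ := exists_nonzero h'
  obtain ⟨g₁, hg₁, e₁⟩ := exists_conj_pr h.toSit (F.mfst x).symm (F.mne x hx).symm hpq pq
  obtain ⟨g₂, hg₂, e₂⟩ := exists_conj_pr h'.toSit (F'.mfst x').symm (F'.mne x' hx').symm hpq' pq'
  set n := pr M x (μ x) with hn
  set n' := pr M' x' (μ' x') with hn'
  set c := g₁⁻¹ * g₂ with hc
  have ec : c * n' * c⁻¹ = n := by
    have h1 : c * n' * c⁻¹ = g₁⁻¹ * (g₂ * n' * g₂⁻¹) * g₁ := by rw [hc]; group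
    rw [h1, e₂, ← en, ← e₁]
    group
  -- the Sylow 2-subgroups of `C_G(n)`
  set T := (S : Subgroup G) ⊓ centralizer ({n} : Set G) with hTd
  set T' := (S' : Subgroup G) ⊓ centralizer ({n'} : Set G) with hTd'
  have hT₂ : cj c T' = ((sy c S' : Sylow 2 G) : Subgroup G) ⊓ centralizer ({n} : Set G) := by
    rw [hTd', cj_inf, sy_coe, ← cent_cj, ec]
  obtain ⟨d, hd, hd1⟩ := M4.exists_cj_eq (T := T) (T' := cj c T') (N := centralizer ({n} : Set G)) inf_le_right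
    (by rw [hT₂]; exact inf_le_right) (S.isPGroup'.to_le inf_le_left)
    (by rw [hT₂]; exact (sy c S').isPGroup'.to_le inf_le_left) (h.sylT F hx) (by
      rw [← ec, cent_cj]
      have h1 := h'.sylT F' hx'
      rwa [relIndex_map_map_of_injective _ _ (MulAut.conj c).injective] )
  have hd1 : cj d (cj c T') = T := hd1
  have hdn : d * n = n * d := mem_C.1 hd
  -- the conjugate situation
  obtain ⟨M₀, h₀, F₀, hpr⟩ := exists_cj h' F' (d * c)
  have hpr' : pr M₀ x' (μ' x') = n := by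
    rw [hpr x' _ (F'.mfst x').symm]
    have h1 : d * c * n' * (d * c)⁻¹ = d * (c * n' * c⁻¹) * d⁻¹ := by group
    rw [← hn', h1, ec, hdn, mul_inv_cancel_right]
  have hT₀ : ((sy (d * c) S' : Sylow 2 G) : Subgroup G) ⊓ centralizer ({n} : Set G) = T := by
    rw [← hd1, hTd', cj_cj, cj_inf, sy_coe, ← cent_cj]
    congr 3
    have h1 : d * c * n' * (d * c)⁻¹ = d * (c * n' * c⁻¹) * d⁻¹ := by group
    rw [h1, ec, hdn, mul_inv_cancel_right]
  have hB₀ : NormT ((sy (d * c) S' : Sylow 2 G) : Subgroup G) (cj (d * c) V') M₀ μ' ν' := by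
    intro y hy g hg
    have hgg : (d * c)⁻¹ * g * (d * c) ∈
        normalizer (((S' : Subgroup G) ⊓ centralizer ({pr M' y (μ' y)} : Set G) : Subgroup G) : Set G) := by
      rw [hpr y _ (F'.mfst y).symm, cent_cj, sy_coe, ← cj_inf, ← cj_normalizer, mem_cj] at hg
      exact hg
    obtain ⟨h1, h2⟩ := hB y hy _ hgg
    refine ⟨?_, ?_⟩
    · rw [← cj_normalizer, mem_cj]; exact h1
    · rw [hpr y _ (F'.mfst y).symm, hpr (ν' y) _ (F'.mfst (ν' y)).symm]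
      rcases h2 with h2 | h2
      · left
        calc g * (d * c * pr M' y (μ' y) * (d * c)⁻¹) * g⁻¹ =
            d * c * ((d * c)⁻¹ * g * (d * c) * pr M' y (μ' y) * ((d * c)⁻¹ * g * (d * c))⁻¹) * (d * c)⁻¹ := by group
          _ = d * c * pr M' y (μ' y) * (d * c)⁻¹ := by rw [h2]
      · right
        rw [← h2]
        group
  -- the pair
  have hg₁V := le_normalizer h.toSit hg₁
  have hg₂V := le_normalizer h'.toSit hg₂
  have hv₀ : g₁⁻¹ * v * g₁ ∈ V := by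
    have := (mem_normalizer_iff.1 (inv_mem hg₁V) v).1 hv
    rwa [inv_inv] at this
  have hu₀ : d * (g₁⁻¹ * u * g₁) * d⁻¹ ∈ cj (d * c) V' := by
    rw [mem_cj]
    have h1 : (d * c)⁻¹ * (d * (g₁⁻¹ * u * g₁) * d⁻¹) * (d * c) = g₂⁻¹ * u * g₂ := by rw [hc]; group
    rw [h1]
    have := (mem_normalizer_iff.1 (inv_mem hg₂V) u).1 hu
    rwa [inv_inv] at this
  have hne₀ : d * (g₁⁻¹ * v * g₁) * d⁻¹ * (d * (g₁⁻¹ * u * g₁) * d⁻¹) ≠
      d * (g₁⁻¹ * u * g₁) * d⁻¹ * (d * (g₁⁻¹ * v * g₁) * d⁻¹) := by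
    intro h1
    refine hne ?_
    calc v * u = (d * g₁⁻¹)⁻¹ * (d * (g₁⁻¹ * v * g₁) * d⁻¹ * (d * (g₁⁻¹ * u * g₁) * d⁻¹)) * (d * g₁⁻¹) := by group
      _ = (d * g₁⁻¹)⁻¹ * (d * (g₁⁻¹ * u * g₁) * d⁻¹ * (d * (g₁⁻¹ * v * g₁) * d⁻¹)) * (d * g₁⁻¹) := by rw [h1]
      _ = u * v := by group
  obtain ⟨l, hl, v₁, hv₁, u₁, hu₁, hne₁⟩ := same h F h₀ F₀ hB₀ hx hx' hpr' (by rw [← hn]; exact hT₀) hdn hv₀ hu₀ hne₀
  exact ⟨x, μ x, (F.mfst x).symm, (F.mne x hx).symm, l, mem_C.2 hl, u₁, hu₁, v₁, hv₁, fun e => hne₁ e.symm⟩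

end main

end Cfsg.Agent.Omega.IId.SwB.Mixed
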