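/-
Copyright (c) 2026 CFSG team. Released under Apache 2.0 license.
Authors: helper334 (#20345 (III)), typed by helper897
-/
import Cfsg.Agent.Omega.IId.SwB.Duad
import Cfsg.Agent.Omega.IId.Big.Base

/-!
# The mixed partner: natural factors over `F₂` as the partner side (project OMEGA, II.d, SwBig)

`h : Big.Fr S V` (the natural four-groups `V i`, helper428's frame), `V j ≤ KK n` (`= W_n`, the stabiliser of
`O₂(C_G(n)) ≥ ⟨n⟩ ≥ 1`), `n ∈ V i`, `a, b ∈ V j`, `j ≠ i`: `Pd S (⨆ V i) n a b`.  So `Dd.exists_pd` applies to a pair of a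
module with duads and a module with `k' ≥ 2` natural factors (`q' = 2`).
-/

set_option autoImplicit false

namespace Cfsg.Agent.Omega.IId.SwB.Mixed

open Subgroup Cfsg Cfsg.Agent.ZN Cfsg.Agent.ZN.ChoiceBase
open Cfsg.Agent.Omega.IId.Big (Fr cz qz conj_mem cent_of_closure)
open Cfsg.Agent.Omega.IId.Triangle (KK mem_KK mem_zpowers_iff_of_sq mem_cent)
open Cfsg.Agent.MinSimple.VModule (o2_isPGroup le_normalizer_o2)

universe u

variable {G : Type u} [Group G] [Finite G] {ι : Type} {S : Subgroup G} {V : ι → Subgroup G}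

/-- **Natural factors as the partner side.** -/
theorem fr_pd (h : Fr S V) {i j : ι} (hij : j ≠ i) {n a b : G} (hn : n ∈ V i) (hn1 : n ≠ 1) (ha : a ∈ V j)
    (ha1 : a ≠ 1) (hb : b ∈ V j) (hb1 : b ≠ 1) (hab : a ≠ b) (VK : ∀ l, V l ≤ KK n) :
    Pd S (⨆ l, V l) n a b := by
  have hcomm : a * b = b * a := h.comm j j a ha b hb
  have hab1 : a * b ≠ 1 := fun e => hab (by
    have h1 : a = b⁻¹ := eq_inv_of_mul_eq_one_left e
    rw [h1]; exact inv_eq_of_mul_eq_one_left (h.sq j b hb))
  have haab : a * b ≠ a := fun e => hb1 (mul_left_cancel (e.trans (mul_one a).symm))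
  -- commuting with the four-group
  have hfour : ∀ g : G, g * a = a * g → g * b = b * g → ∀ u ∈ V j, g * u = u * g := by
    intro g ga gb u hu
    rcases h.cases4 ha hb ha1 hb1 hab hu with rfl | rfl | rfl | rfl
    · rw [mul_one, one_mul]
    · exact ga
    · exact gb
    · rw [← mul_assoc, ga, mul_assoc, gb, mul_assoc]
  have hK : (⨆ l, V l) ≤ KK n := iSup_le VK
  refine
    { vQ := iSup_le fun l => h.VQ i l n hn hn1
      vc := fun g hg v hv => ?_
      act := fun g hg => ?_
      bV := le_iSup V j hb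
      exists_y := ?_
      fix := fun g hg hga => ?_ }
  · have h1 : v * g * v⁻¹ = g ∨ v * g * v⁻¹ = n * g := h.KK_act hn (hK hv) hg
    have h2 : g * v * g⁻¹ * v⁻¹ = (v * g * v⁻¹ * g⁻¹)⁻¹ := by group
    rcases h1 with h1 | h1
    · left; rw [h2, h1, mul_inv_cancel, inv_one]
    · right
      rw [h2, h1, mul_inv_cancel_right]
      exact inv_eq_of_mul_eq_one_left (h.sq i n hn)
  · by_cases hgb : g * b = b * g
    · left
      have h1 : (⨆ l, V l) ≤ centralizer ({g} : Set G) := by
        refine iSup_le fun l u hu => mem_cent.2 ?_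
        by_cases hl : l = j
        · subst hl
          have hga : g * a = a * g := mem_cent.1 (MinSimple.VModule.o2_le _ hg)
          exact (hfour g hga hgb u hu).symm
        · exact (h.Qc j l hl a ha ha1 g hg u hu).symm
      exact fun v hv => (mem_cent.1 (h1 hv)).symm
    · exact Or.inr hgb
  · obtain ⟨y, hy, hy1⟩ := h.move (mul_mem ha hb) ha hab1 ha1 haab
    refine ⟨y, ?_, ?_⟩
    · exact mem_cent.1 (h.KK_le (i := j) (j := i) hij.symm (mul_mem ha hb) hab1 hn hy)
    · rw [hy1, hcomm, mul_assoc, h.sq j a ha, mul_one]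
  · obtain ⟨l, hl⟩ := h.perm g hg j
    have h1 : a ∈ V l := by
      have := (hl a).1 ha
      rwa [hga, mul_inv_cancel_right] at this
    have h2 : l = j := by
      by_contra hne
      exact ha1 (h.disj hne h1 ha)
    subst h2
    have h3 := (hl b).1 hb
    have h4 : g * b * g⁻¹ ≠ 1 := fun e => hb1 (by
      have : b = g⁻¹ * (g * b * g⁻¹) * g := by group
      rw [this, e]; group)
    have h5 : g * b * g⁻¹ ≠ a := fun e => hab (by
      have h6 : g * b * g⁻¹ = g * a * g⁻¹ := by rw [e, hga, mul_inv_cancel_right]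
      exact (mul_left_cancel (mul_right_cancel h6)).symm)
    rcases h.cases4 ha hb ha1 hb1 hab h3 with h6 | h6 | h6 | h6
    · exact absurd h6 h4
    · exact absurd h6 h5
    · left; rw [h6, mul_inv_cancel]
    · right; rw [h6, mul_inv_cancel_right]

end Cfsg.Agent.Omega.IId.SwB.Mixed
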