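import Cfsg.Agent.Omega.IId.SymWrD.Main
import Cfsg.Agent.Omega.IId.SymWrD.TThm
import Cfsg.Agent.Omega.NOThreeL.AdjTransv

/-!
# II.d, `SwBig`-B, the T-T case: `Ω₁(Z(O₂(P))) = V` (bb OMEGA #19821, helper123, helper290; statements #20473)

`TTS S P V M` : the situation `Sit` with F1 for all duads `p`, and one duad `n` with a partner: an involution
`w ∈ O₂(C_G(n))` which acts on `V` as the transposition `t_n`, `[O₂(C_G(n)), w] ≤ ⟨n⟩`.

* `TTS.exists_w` : the partner for all duads;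
* `TTS.V_le_o2`, `TTS.comm_o2` : `V ≤ O₂(C_G(p))`, `[O₂(C_G(p)), V] ≤ ⟨p⟩`;
* `TTS.zv` : **(ZV)** `Ω₁(Z(O₂(P))) = V`;
* `TTS.U_le_Q`, `TTS.mem_U`, `TTS.of_cent` : `U_p = Ω₁(Z(O₂(C_G(p))))` lies in `O₂(P)`, `U_p ∩ V = p^⊥ = C_{U_p}(O₂(P))`.
-/

set_option autoImplicit false

namespace Cfsg.Agent.Omega.IId.SwB

open Subgroup Pointwise Cfsg Cfsg.Agent.ZN Cfsg.Agent.Omega.MinPar Cfsg.Agent.Omega.FFThm
open Cfsg.Agent.Omega.Half.SymA (Pt E Mv pm Amb0)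
open Cfsg.Agent.Omega.IId.SymWrD
open Cfsg.Agent.MinSimple.VModule (mem_zc zc_le zc_comm zc_sq zc_le_zl le_normalizer_o2 o2_isPGroup o2_le le_o2
  normalizer_le_normalizer_zc le_normalizer_zl)

universe u

variable {G : Type u} [Group G]

/-- `ζ ∈ N` acting trivially on `Ω₁(Z(O₂(N)))` and on `O₂(N)/Ω₁(Z(O₂(N)))` lies in `O₂(N)` -/
theorem mem_o2_of_chain [Finite G] {N : Subgroup G} (hcW : N ⊓ centralizer (o2 N : Set G) ≤ o2 N) {ζ : G} (hζ : ζ ∈ N)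
    (h1 : ∀ g ∈ o2 N, g * ζ * g⁻¹ * ζ⁻¹ ∈ zc (o2 N)) (h2 : ∀ u ∈ zc (o2 N), u * ζ = ζ * u) : ζ ∈ o2 N := by
  have hsq : ∀ u ∈ zc (o2 N), u * u = 1 := fun u hu => by rw [← pow_two]; exact zc_sq _ u hu
  let K : Subgroup G :=
    { carrier := {g | g ∈ N ∧ (∀ x ∈ o2 N, x * g * x⁻¹ * g⁻¹ ∈ zc (o2 N)) ∧ ∀ u ∈ zc (o2 N), u * g = g * u}
      one_mem' := ⟨one_mem _, fun x _ => by
        have : x * 1 * x⁻¹ * 1⁻¹ = (1 : G) := by group
        rw [this]; exact one_mem _, fun u _ => by rw [mul_one, one_mul]⟩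
      mul_mem' := by
        rintro a b ⟨ha, ha', ha''⟩ ⟨hb, hb', hb''⟩
        refine ⟨mul_mem ha hb, fun x hx => ?_, fun u hu => by rw [← mul_assoc, ha'' u hu, mul_assoc, hb'' u hu, mul_assoc]⟩
        have e : x * (a * b) * x⁻¹ * (a * b)⁻¹ = (x * a * x⁻¹ * a⁻¹) * (a * (x * b * x⁻¹ * b⁻¹) * a⁻¹) := by group
        have e2 : a * (x * b * x⁻¹ * b⁻¹) * a⁻¹ = x * b * x⁻¹ * b⁻¹ := by
          rw [← ha'' _ (hb' x hx), mul_inv_cancel_right]
        rw [e, e2]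
        exact mul_mem (ha' x hx) (hb' x hx)
      inv_mem' := by
        rintro a ⟨ha, ha', ha''⟩
        have hc : ∀ u ∈ zc (o2 N), u * a⁻¹ = a⁻¹ * u := fun u hu => by
          rw [mul_inv_eq_iff_eq_mul, mul_assoc, ha'' u hu, inv_mul_cancel_left]
        refine ⟨inv_mem ha, fun x hx => ?_, hc⟩
        have e : x * a⁻¹ * x⁻¹ * a⁻¹⁻¹ = a⁻¹ * (x * a * x⁻¹ * a⁻¹)⁻¹ * a := by group
        have e2 : a⁻¹ * (x * a * x⁻¹ * a⁻¹)⁻¹ * a = (x * a * x⁻¹ * a⁻¹)⁻¹ := by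
          rw [← hc _ (inv_mem (ha' x hx)), inv_mul_cancel_right]
        rw [e, e2]
        exact inv_mem (ha' x hx) }
  have hK : ∀ g, g ∈ K ↔ g ∈ N ∧ (∀ x ∈ o2 N, x * g * x⁻¹ * g⁻¹ ∈ zc (o2 N)) ∧ ∀ u ∈ zc (o2 N), u * g = g * u :=
    fun g => Iff.rfl
  refine (le_o2 (fun g hg => ((hK g).1 hg).1) ?_ ?_ : K ≤ o2 N) ((hK ζ).2 ⟨hζ, h1, h2⟩)
  · intro g
    obtain ⟨hgN, hg', hg''⟩ := (hK _).1 g.2
    have h3 : (g : G) * g ∈ o2 N := by
      refine hcW ⟨mul_mem hgN hgN, mem_centralizer_iff.2 fun x hx => ?_⟩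
      have e : x * ((g : G) * g) * x⁻¹ * ((g : G) * g)⁻¹ =
          (x * g * x⁻¹ * (g : G)⁻¹) * (g * (x * g * x⁻¹ * (g : G)⁻¹) * (g : G)⁻¹) := by group
      have e2 : (g : G) * (x * g * x⁻¹ * (g : G)⁻¹) * (g : G)⁻¹ = x * g * x⁻¹ * (g : G)⁻¹ := by
        rw [← hg'' _ (hg' x hx), mul_inv_cancel_right]
      rw [e2, hsq _ (hg' x hx)] at e
      calc x * ((g : G) * g) = (x * ((g : G) * g) * x⁻¹ * ((g : G) * g)⁻¹) * (((g : G) * g) * x) := by group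
        _ = ((g : G) * g) * x := by rw [e, one_mul]
    obtain ⟨j, hj⟩ := (o2_isPGroup N) ⟨(g : G) * g, h3⟩
    refine ⟨j + 1, Subtype.ext ?_⟩
    have h4 := congrArg Subtype.val hj
    rw [SubmonoidClass.coe_pow, OneMemClass.coe_one] at h4 ⊢
    change ((g : G) * g) ^ 2 ^ j = 1 at h4
    rw [pow_succ, mul_comm, pow_mul, pow_two]
    exact h4
  · intro g hg
    refine MinSimple.VModule.mem_normalizer_of_map_le ?_
    rintro _ ⟨a, ha, rfl⟩
    obtain ⟨haN, ha', ha''⟩ := (hK a).1 ha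
    change g * a * g⁻¹ ∈ K
    have hgo : ∀ x ∈ o2 N, g⁻¹ * x * g ∈ o2 N := fun x hx => by
      have := (mem_normalizer_iff.1 (le_normalizer_o2 N (inv_mem hg)) x).1 hx
      rwa [inv_inv] at this
    have hgz : g ∈ normalizer (zc (o2 N) : Set G) := normalizer_le_normalizer_zc _ (le_normalizer_o2 N hg)
    refine (hK _).2 ⟨N.mul_mem (N.mul_mem hg haN) (N.inv_mem hg), fun x hx => ?_, fun u hu => ?_⟩
    · have e : x * (g * a * g⁻¹) * x⁻¹ * (g * a * g⁻¹)⁻¹ =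
          g * ((g⁻¹ * x * g) * a * (g⁻¹ * x * g)⁻¹ * a⁻¹) * g⁻¹ := by group
      rw [e]
      exact (mem_normalizer_iff.1 hgz _).1 (ha' _ (hgo x hx))
    · have h5 : g⁻¹ * u * g ∈ zc (o2 N) := by
        have := (mem_normalizer_iff.1 (inv_mem hgz) u).1 hu
        rwa [inv_inv] at this
      have h6 := ha'' _ h5
      calc u * (g * a * g⁻¹) = g * (g⁻¹ * u * g * a) * g⁻¹ := by group
        _ = g * (a * (g⁻¹ * u * g)) * g⁻¹ := by rw [h6]
        _ = g * a * g⁻¹ * u := by group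

/-- **The T-T case.** -/
structure TTS (S : Sylow 2 G) (P V : Subgroup G) {k m : ℕ} (M : SymK (S : Subgroup G) P V ⊥ k m) : Prop extends
    SymWrD.Sit S P V M where
  char2 : IsCharacteristicTwoType G
  zcS : zc (S : Subgroup G) ≤ V
  hF1 : ∀ p q : Pt k m, p.1 = q.1 → p ≠ q → ∀ g ∈ o2 (centralizer ({pr M p q} : Set G)),
    g ∈ P ∧ (pp M g = 1 ∨ pp M g = Equiv.swap p q)
  partner : ∃ p q : Pt k m, p.1 = q.1 ∧ p ≠ q ∧ ∃ w ∈ o2 (centralizer ({pr M p q} : Set G)), w * w = 1 ∧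
    pp M w = Equiv.swap p q ∧ ∀ g ∈ o2 (centralizer ({pr M p q} : Set G)), g * w * g⁻¹ * w⁻¹ = 1 ∨
      g * w * g⁻¹ * w⁻¹ = pr M p q

variable {S : Sylow 2 G} {P V : Subgroup G} {k m : ℕ}

/-- `U_p = Ω₁(Z(O₂(C_G(p))))` -/
def U (M : SymK (S : Subgroup G) P V ⊥ k m) (p q : Pt k m) : Subgroup G := zc (o2 (centralizer ({pr M p q} : Set G)))

variable {M : SymK (S : Subgroup G) P V ⊥ k m}

/-- from `SitD` with `D = 1` (all of F1 is proved), and a partner -/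
theorem TTS.of_sitD [Finite G] (hG : IsCharacteristicTwoType G) (h : SitD S P V ⊥ M) {p q : Pt k m} (hpq : p.1 = q.1)
    (hne : p ≠ q) {w : G} (hw : w ∈ o2 (centralizer ({pr M p q} : Set G))) (hww : w * w = 1)
    (hwp : pp M w = Equiv.swap p q) (hc : ∀ g ∈ o2 (centralizer ({pr M p q} : Set G)), g * w * g⁻¹ * w⁻¹ = 1 ∨
      g * w * g⁻¹ * w⁻¹ = pr M p q) : TTS S P V M where
  toSit := h.toSit
  char2 := hG
  zcS := h.zcVD.trans (by rw [sup_bot_eq])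
  hF1 := fun p q hpq hne => L_all h (fun _ _ F _ hx => tt h.toSit F hx) hpq hne
  partner := ⟨p, q, hpq, hne, w, hw, hww, hwp, hc⟩

namespace TTS

variable [Finite G] (h : TTS S P V M) {p q : Pt k m}

include h

omit [Finite G] h in
theorem pr_ne (hpq : p.1 = q.1) (hne : p ≠ q) : pr M p q ≠ 1 := by
  intro h0
  have h1 := E_pr_left M hpq hne
  rw [h0, Half.SymA.E_one] at h1
  exact zero_ne_one h1

omit [Finite G] in
theorem pr_sq (p q : Pt k m) : pr M p q * pr M p q = 1 := h.toSit.Vsq (pr_mem M p q)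

/-- `C_G(n)` is of characteristic 2 -/
theorem cW (hpq : p.1 = q.1) (hne : p ≠ q) : centralizer ({pr M p q} : Set G) ⊓
    centralizer (o2 (centralizer ({pr M p q} : Set G)) : Set G) ≤ o2 (centralizer ({pr M p q} : Set G)) := by
  have hn : pr M p q ^ 2 = 1 := by rw [pow_two]; exact h.pr_sq p q
  have hn1 := pr_ne (M := M) hpq hne
  have h1 := MinSimple.Basic.char2_normalizer h.char2 (U := zpowers (pr M p q))
    (IsPGroup.iff_card.2 ⟨1, by rw [Nat.card_zpowers]; exact (orderOf_eq_prime hn hn1).trans (pow_one 2).symm⟩)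
    (fun h0 => hn1 (zpowers_eq_bot.1 h0))
  rwa [MinSimple.Basic.normalizer_zpowers_eq hn] at h1

/-- the partner for all duads -/
theorem exists_w (hpq : p.1 = q.1) (hne : p ≠ q) : ∃ w ∈ o2 (centralizer ({pr M p q} : Set G)), w * w = 1 ∧
    pp M w = Equiv.swap p q ∧ ∀ g ∈ o2 (centralizer ({pr M p q} : Set G)), g * w * g⁻¹ * w⁻¹ = 1 ∨
      g * w * g⁻¹ * w⁻¹ = pr M p q := by
  obtain ⟨a, b, hab, hab', w, hw, hw2, hwp, hw'⟩ := h.partner
  obtain ⟨g, hg, hg1⟩ := exists_conj_pr h.toSit hab hab' hpq hne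
  have hwP : w ∈ P := (h.hF1 a b hab hab' w hw).1
  refine ⟨g * w * g⁻¹, LTwoTr.o2_cj hg1 hw, ?_, ?_, ?_⟩
  · calc g * w * g⁻¹ * (g * w * g⁻¹) = g * (w * w) * g⁻¹ := by group
      _ = 1 := by rw [hw2]; group
  · rw [h.toSit.conj hg hwP, hwp, ← Equiv.swap_apply_apply]
    exact swap_eq_of_pr (M := M) (h.toSit.fst hg hab) (fun h0 => hab' ((pp M g).injective h0)) hpq hne
      (by rw [← h.toSit.conj_pr hg hab, hg1])
  · intro y hy
    have hg2 : g⁻¹ * pr M p q * g⁻¹⁻¹ = pr M a b := by rw [← hg1]; group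
    have hy' := LTwoTr.o2_cj hg2 hy
    have e : y * (g * w * g⁻¹) * y⁻¹ * (g * w * g⁻¹)⁻¹ =
        g * ((g⁻¹ * y * g⁻¹⁻¹) * w * (g⁻¹ * y * g⁻¹⁻¹)⁻¹ * w⁻¹) * g⁻¹ := by group
    rw [e]
    rcases hw' _ hy' with h1 | h1
    · left; rw [h1]; group
    · right; rw [h1, hg1]

/-- `V ≤ O₂(C_G(p))` -/
theorem V_le_o2 (hpq : p.1 = q.1) (hne : p ≠ q) : V ≤ o2 (centralizer ({pr M p q} : Set G)) := by
  refine le_o2_of_comm h.char2 (by rw [pow_two]; exact h.pr_sq p q) (pr_ne hpq hne)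
    (fun u hu => h.toSit.Vcomm hu (pr_mem M p q)) fun x hx u hu => ?_
  obtain ⟨hxP, hx'⟩ := h.hF1 p q hpq hne x hx
  rcases (comm_of_swap h.toSit hpq hne hxP hx' hu).1 with h1 | h1
  · left; exact commutatorElement_eq_one_iff_mul_comm.2 h1
  · right; exact h1

/-- `[O₂(C_G(p)), V] ≤ ⟨p⟩` -/
theorem comm_o2 (hpq : p.1 = q.1) (hne : p ≠ q) {g : G} (hg : g ∈ o2 (centralizer ({pr M p q} : Set G))) {v : G}
    (hv : v ∈ V) : (g * v * g⁻¹ * v⁻¹ = 1 ∨ g * v * g⁻¹ * v⁻¹ = pr M p q) ∧ (E M v p = E M v q → g * v = v * g) := by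
  obtain ⟨hxP, hx'⟩ := h.hF1 p q hpq hne g hg
  obtain ⟨h1, h2⟩ := comm_of_swap h.toSit hpq hne hxP hx' hv
  refine ⟨?_, h2⟩
  rcases h1 with h1 | h1
  · left; rw [h1]; group
  · right; exact h1

/-- the kernel of `O₂(C_G(p))` on `V` lies in `O₂(P)` -/
theorem mem_Q (hpq : p.1 = q.1) (hne : p ≠ q) {g : G} (hg : g ∈ o2 (centralizer ({pr M p q} : Set G)))
    (h1 : pp M g = 1) : g ∈ o2 P :=
  h.toSit.mem_Q_of_two (o2_isPGroup _) (fun x hx => (h.hF1 p q hpq hne x hx).1) hg h1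

/-- `U_p ≤ O₂(P)` -/
theorem U_le_Q (hpq : p.1 = q.1) (hne : p ≠ q) : U M p q ≤ o2 P := by
  intro y hy
  obtain ⟨hyW, hyc, -⟩ := mem_zc.1 hy
  refine h.mem_Q hpq hne hyW ?_
  rw [h.toSit.eq_one_iff (h.hF1 p q hpq hne y hyW).1, mem_centralizer_iff]
  intro v hv
  exact hyc v (h.V_le_o2 hpq hne hv)

/-- `U_p ∩ V = p^⊥` -/
theorem mem_U (hpq : p.1 = q.1) (hne : p ≠ q) {v : G} (hv : v ∈ V) : v ∈ U M p q ↔ E M v p = E M v q := by
  constructor
  · intro h1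
    obtain ⟨w, hw, -, hwp, -⟩ := h.exists_w hpq hne
    have h2 := (mem_zc.1 h1).2.1 w hw
    have h3 := (h.toSit.comm_iff (h.hF1 p q hpq hne w hw).1 hv).1 h2 q
    rwa [hwp, Equiv.swap_apply_right] at h3
  · intro h1
    refine mem_zc.2 ⟨h.V_le_o2 hpq hne hv, fun g hg => (h.comm_o2 hpq hne hg hv).2 h1, ?_⟩
    rw [pow_two]; exact h.toSit.Vsq hv

/-- the elements of `O₂(C_G(p))`, modulo `w` -/
theorem split (hpq : p.1 = q.1) (hne : p ≠ q) {w : G} (hw : w ∈ o2 (centralizer ({pr M p q} : Set G)))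
    (hwp : pp M w = Equiv.swap p q) {g : G} (hg : g ∈ o2 (centralizer ({pr M p q} : Set G))) :
    g ∈ o2 P ∨ g * w⁻¹ ∈ o2 P := by
  obtain ⟨hgP, h1 | h1⟩ := h.hF1 p q hpq hne g hg
  · left; exact h.mem_Q hpq hne hg h1
  · right
    have hwP := (h.hF1 p q hpq hne w hw).1
    refine h.mem_Q hpq hne (mul_mem hg (inv_mem hw)) ?_
    rw [h.toSit.mul hgP (inv_mem hwP), h.toSit.inv hwP, h1, hwp, mul_inv_cancel]

/-- `Ω₁(Z(O₂(P))) ≤ O₂(C_G(p))` -/
theorem zz_le_o2 (hpq : p.1 = q.1) (hne : p ≠ q) : zc (o2 P) ≤ o2 (centralizer ({pr M p q} : Set G)) := by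
  intro ζ hζ
  obtain ⟨w, hw, hw2, hwp, -⟩ := h.exists_w hpq hne
  have hwP := (h.hF1 p q hpq hne w hw).1
  have hnV : pr M p q ∈ zc (o2 P) := h.VZ (pr_mem M p q)
  have hζQ := (mem_zc.1 hζ).2.1
  have hζN : ζ ∈ centralizer ({pr M p q} : Set G) := mem_centralizer_singleton_iff.2 (Sit.zz_comm hζ hnV)
  have hwζ : w * ζ * w⁻¹ ∈ zc (o2 P) := Sit.zz_conj hwP hζ
  have hwi : w⁻¹ = w := inv_eq_of_mul_eq_one_left hw2
  -- `c = [w, ζ]`
  have hcZ : w * ζ * w⁻¹ * ζ⁻¹ ∈ zc (o2 P) := mul_mem hwζ (inv_mem hζ)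
  have hcW : w * ζ * w⁻¹ * ζ⁻¹ ∈ o2 (centralizer ({pr M p q} : Set G)) := by
    have h1 : ζ * w⁻¹ * ζ⁻¹ ∈ o2 (centralizer ({pr M p q} : Set G)) :=
      (mem_normalizer_iff.1 (le_normalizer_o2 _ hζN) _).1 (inv_mem hw)
    have e : w * ζ * w⁻¹ * ζ⁻¹ = w * (ζ * w⁻¹ * ζ⁻¹) := by group
    rw [e]
    exact mul_mem hw h1
  have hcw : w * (w * ζ * w⁻¹ * ζ⁻¹) = (w * ζ * w⁻¹ * ζ⁻¹) * w := by
    have h1 := Sit.zz_comm hζ hwζ
    have hζi : ζ⁻¹ = ζ := inv_eq_of_mul_eq_one_left (Sit.zz_sq hζ)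
    rw [hwi] at h1 ⊢
    rw [hζi]
    calc w * (w * ζ * w * ζ) = (w * w) * (ζ * (w * ζ)) := by group
      _ = ζ * (w * ζ) := by rw [hw2, one_mul]
      _ = ζ * (w * ζ) * (w * w) := by rw [hw2, mul_one]
      _ = ζ * (w * ζ * w) * w := by group
      _ = w * ζ * w * ζ * w := by rw [h1]
  have hcU : w * ζ * w⁻¹ * ζ⁻¹ ∈ zc (o2 (centralizer ({pr M p q} : Set G))) := by
    refine mem_zc.2 ⟨hcW, fun g hg => ?_, by rw [pow_two]; exact Sit.zz_sq hcZ⟩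
    rcases h.split hpq hne hw hwp hg with h1 | h1
    · exact (mem_zc.1 hcZ).2.1 g h1
    · have h2 := (mem_zc.1 hcZ).2.1 _ h1
      calc g * (w * ζ * w⁻¹ * ζ⁻¹) = g * w⁻¹ * (w * (w * ζ * w⁻¹ * ζ⁻¹)) := by group
        _ = (g * w⁻¹ * (w * ζ * w⁻¹ * ζ⁻¹)) * w := by rw [hcw]; group
        _ = w * ζ * w⁻¹ * ζ⁻¹ * g := by rw [h2]; group
  refine mem_o2_of_chain (h.cW hpq hne) hζN (fun g hg => ?_) (fun u hu => ?_)
  · rcases h.split hpq hne hw hwp hg with h1 | h1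
    · have h2 := hζQ g h1
      have e : g * ζ * g⁻¹ * ζ⁻¹ = 1 := by rw [h2]; group
      rw [e]
      exact one_mem _
    · have h2 := (mem_zc.1 hwζ).2.1 _ h1
      have e : g * ζ * g⁻¹ * ζ⁻¹ = w * ζ * w⁻¹ * ζ⁻¹ := by
        calc g * ζ * g⁻¹ * ζ⁻¹ = (g * w⁻¹ * (w * ζ * w⁻¹)) * (g * w⁻¹)⁻¹ * ζ⁻¹ := by group
          _ = w * ζ * w⁻¹ * ζ⁻¹ := by rw [h2]; group
      rw [e]
      exact hcU
  · exact hζQ u (h.U_le_Q hpq hne hu)

/-- a transposition acts on `Ω₁(Z(O₂(P)))` as a transvection with centre `⟨p⟩` -/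
theorem zz_swap (hpq : p.1 = q.1) (hne : p ≠ q) {ζ : G} (hζ : ζ ∈ zc (o2 P)) {g : G} (hg : g ∈ P)
    (hgp : pp M g = Equiv.swap p q) : g * ζ * g⁻¹ = ζ ∨ g * ζ * g⁻¹ = ζ * pr M p q := by
  obtain ⟨w, hw, hw2, hwp, hwc⟩ := h.exists_w hpq hne
  have hwP := (h.hF1 p q hpq hne w hw).1
  rw [h.toSit.zz_eq hg hwP (hgp.trans hwp.symm) hζ]
  have hwi : w⁻¹ = w := inv_eq_of_mul_eq_one_left hw2
  have hζi : ζ⁻¹ = ζ := inv_eq_of_mul_eq_one_left (Sit.zz_sq hζ)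
  have hn := Sit.zz_comm (P := P) (h.VZ (pr_mem M p q)) hζ
  rcases hwc ζ (h.zz_le_o2 hpq hne hζ) with h1 | h1
  · left
    rw [mul_inv_eq_one, mul_inv_eq_iff_eq_mul] at h1
    rw [← h1, mul_inv_cancel_right]
  · right
    rw [hζi, hwi] at h1
    have h2 : w * ζ * w = ζ * pr M p q := by
      rw [← h1]
      calc w * ζ * w = (ζ * ζ) * (w * ζ * w) := by rw [Sit.zz_sq hζ, one_mul]
        _ = ζ * (ζ * w * ζ * w) := by group
    rw [hwi, h2]

/-- **(ZV)** -/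
theorem zv : zc (o2 P) = V := by
  classical
  refine le_antisymm (fun ζ hζ => ?_) h.VZ
  have hζζ := Sit.zz_sq hζ
  choose t ht htp using fun p : Pt k m => h.toSit.exists_swap (p := (p.1, 0)) (q := p) rfl
  -- the label
  obtain ⟨f, hf⟩ : ∃ f : Pt k m → ZMod 2, ∀ p, f p = if t p * ζ * (t p)⁻¹ = ζ then 0 else 1 := ⟨_, fun _ => rfl⟩
  have h20 : (2 : ZMod 2) = 0 := rfl
  have hcard : ((2 ^ m + 1 : ℕ) : ZMod 2) = 1 := by
    have hm : m ≠ 0 := by have := h.hm; omega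
    rw [Nat.cast_add, Nat.cast_pow, Nat.cast_one, show ((2 : ℕ) : ZMod 2) = 0 from rfl, zero_pow hm, zero_add]
  have hf0 : ∀ i, f (i, 0) = 0 := by
    intro i
    have h1 : pp M (t (i, 0)) = 1 := by rw [htp]; exact Equiv.swap_self _
    have h2 := h.toSit.zz_eq (ht (i, 0)) (one_mem P) (h1.trans h.toSit.one.symm) hζ
    rw [hf, if_pos (by rw [h2]; group)]
  obtain ⟨e, he, heE⟩ := Half.SymA.exists_E M (fun p => f p + ∑ x, f (p.1, x)) (fun i => by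
    rw [Finset.sum_add_distrib]
    dsimp only
    rw [Finset.sum_const, Finset.card_univ, Fintype.card_fin, nsmul_eq_mul, hcard, one_mul]
    exact CharTwo.add_self_eq_zero _)
  have heZ : e ∈ zc (o2 P) := h.VZ he
  -- `t p` commutes with `ζ e`
  have hty : ∀ p : Pt k m, t p * (ζ * e) * (t p)⁻¹ = ζ * e := by
    intro p
    by_cases hp : (p.1, 0) = p
    · have h1 : pp M (t p) = 1 := by rw [htp, hp]; exact Equiv.swap_self _
      rw [h.toSit.zz_eq (ht p) (one_mem P) (h1.trans h.toSit.one.symm) (mul_mem hζ heZ)]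
      group
    · have hEe : E M e (p.1, 0) + E M e p = f p := by
        rw [heE, heE, hf0]
        have : ∀ a b : ZMod 2, 0 + a + (b + a) = b := by decide
        exact this _ _
      have h1 := comm_of_swap h.toSit (p := (p.1, 0)) (q := p) rfl hp (ht p) (Or.inr (htp p)) he
      by_cases h2 : t p * ζ * (t p)⁻¹ = ζ
      · rw [hf, if_pos h2] at hEe
        have h3 : E M e (p.1, 0) = E M e p := CharTwo.add_eq_zero.1 hEe
        have h4 := h1.2 h3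
        calc t p * (ζ * e) * (t p)⁻¹ = (t p * ζ * (t p)⁻¹) * (t p * e * (t p)⁻¹) := by group
          _ = ζ * e := by rw [h2, h4, mul_inv_cancel_right]
      · rw [hf, if_neg h2] at hEe
        have h3 : ¬ t p * e = e * t p := by
          intro h3
          have h4 := (h.toSit.comm_iff (ht p) he).1 h3 p
          rw [htp, Equiv.swap_apply_right] at h4
          rw [h4, CharTwo.add_self_eq_zero] at hEe
          exact zero_ne_one hEe
        have h4 := h1.1.resolve_left h3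
        have h5 := (h.zz_swap (p := (p.1, 0)) (q := p) rfl hp hζ (ht p) (htp p)).resolve_left h2
        rw [commutatorElement_def] at h4
        have h6 : t p * e * (t p)⁻¹ = pr M (p.1, 0) p * e := by rw [← h4]; group
        calc t p * (ζ * e) * (t p)⁻¹ = (t p * ζ * (t p)⁻¹) * (t p * e * (t p)⁻¹) := by group
          _ = ζ * (pr M (p.1, 0) p * pr M (p.1, 0) p) * e := by rw [h5, h6]; group
          _ = ζ * e := by rw [h.pr_sq, mul_one]
  have hyZ : ζ * e ∈ zc (o2 P) := mul_mem hζ heZ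
  -- the elements fixed by all transpositions
  let Z0 : Subgroup G :=
    { carrier := {y | y ∈ zc (o2 P) ∧ ∀ p q : Pt k m, p.1 = q.1 → ∀ g ∈ P, pp M g = Equiv.swap p q → g * y = y * g}
      one_mem' := ⟨one_mem _, fun _ _ _ g _ _ => by rw [mul_one, one_mul]⟩
      mul_mem' := by
        rintro a b ⟨ha, ha'⟩ ⟨hb, hb'⟩
        refine ⟨mul_mem ha hb, fun p q hpq g hg hgp => ?_⟩
        rw [← mul_assoc, ha' p q hpq g hg hgp, mul_assoc, hb' p q hpq g hg hgp, mul_assoc]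
      inv_mem' := by
        rintro a ⟨ha, ha'⟩
        refine ⟨inv_mem ha, fun p q hpq g hg hgp => ?_⟩
        rw [mul_inv_eq_iff_eq_mul, mul_assoc, ha' p q hpq g hg hgp, inv_mul_cancel_left] }
  have hZ0 : ∀ y, y ∈ Z0 ↔ y ∈ zc (o2 P) ∧ ∀ p q : Pt k m, p.1 = q.1 → ∀ g ∈ P, pp M g = Equiv.swap p q →
      g * y = y * g := fun _ => Iff.rfl
  have hy0 : ζ * e ∈ Z0 := by
    refine (hZ0 _).2 ⟨hyZ, fun p q hpq g hg hgp => ?_⟩
    rw [← mul_inv_eq_iff_eq_mul]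
    by_cases hq : q = (p.1, 0)
    · have h1 : pp M g = pp M (t p) := by rw [hgp, htp, hq, Equiv.swap_comm]
      rw [h.toSit.zz_eq hg (ht p) h1 hyZ, hty]
    by_cases hp : p = (p.1, 0)
    · have h1 : pp M g = pp M (t q) := by rw [hgp, htp, ← hpq, ← hp]
      rw [h.toSit.zz_eq hg (ht q) h1 hyZ, hty]
    by_cases hpq' : p = q
    · have h1 : pp M g = pp M 1 := by rw [hgp, h.toSit.one, hpq', Equiv.swap_self]; rfl
      rw [h.toSit.zz_eq hg (one_mem P) h1 hyZ]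
      group
    have h1 : pp M g = pp M (t p * t q * t p) := by
      rw [h.toSit.mul (mul_mem (ht p) (ht q)) (ht p), h.toSit.mul (ht p) (ht q), htp, htp, hgp, ← hpq]
      have h2 := Equiv.swap_apply_apply (Equiv.swap (p.1, 0) p) (p.1, 0) q
      rw [Equiv.swap_apply_left, Equiv.swap_apply_of_ne_of_ne hq (Ne.symm hpq'), Equiv.swap_inv] at h2
      exact h2
    rw [h.toSit.zz_eq hg (mul_mem (mul_mem (ht p) (ht q)) (ht p)) h1 hyZ]
    calc t p * t q * t p * (ζ * e) * (t p * t q * t p)⁻¹ =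
        t p * (t q * (t p * (ζ * e) * (t p)⁻¹) * (t q)⁻¹) * (t p)⁻¹ := by group
      _ = ζ * e := by rw [hty, hty, hty]
  have hy1 : ζ * e = 1 := by
    by_contra hne
    have hb : Z0 ≠ ⊥ := fun h0 => hne (mem_bot.1 (h0 ▸ hy0))
    obtain ⟨z, hz, hz1, hzS⟩ := NOThreeL.AdjTransv.exists_fixed (S := (S : Subgroup G)) S.isPGroup' hb
      (fun n hn => Sit.zz_sq ((hZ0 n).1 hn).1) (fun s hs y hy => by
        obtain ⟨hy1, hy2⟩ := (hZ0 y).1 hy
        have hsP := h.SP hs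
        refine (hZ0 _).2 ⟨Sit.zz_conj hsP hy1, fun p q hpq g hg hgp => ?_⟩
        have hgs : s⁻¹ * g * s⁻¹⁻¹ ∈ P := mul_mem (mul_mem (inv_mem hsP) hg) (inv_mem (inv_mem hsP))
        have h1 : pp M (s⁻¹ * g * s⁻¹⁻¹) = Equiv.swap (pp M s⁻¹ p) (pp M s⁻¹ q) := by
          rw [h.toSit.conj (inv_mem hsP) hg, hgp, ← Equiv.swap_apply_apply]
        have h2 := hy2 _ _ (h.toSit.fst (inv_mem hsP) hpq) _ hgs h1
        calc g * (s * y * s⁻¹) = s * (s⁻¹ * g * s⁻¹⁻¹ * y) * s⁻¹ := by group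
          _ = s * (y * (s⁻¹ * g * s⁻¹⁻¹)) * s⁻¹ := by rw [h2]
          _ = s * y * s⁻¹ * g := by group)
    obtain ⟨hzZ, hzt⟩ := (hZ0 z).1 hz
    have hzS' : z ∈ zc (S : Subgroup G) := by
      refine mem_zc.2 ⟨h.QS (zc_le _ hzZ), fun s hs => ?_, by rw [pow_two]; exact Sit.zz_sq hzZ⟩
      have := hzS s hs
      rwa [mul_inv_eq_iff_eq_mul] at this
    have hzV := h.zcS hzS'
    refine hz1 (Half.SymA.eq_one M hzV fun p => ?_)
    have hconst : ∀ q : Pt k m, E M z q = E M z (q.1, 0) := by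
      intro q
      have h1 := (h.toSit.comm_iff (ht q) hzV).1 (hzt (q.1, 0) q rfl _ (ht q) (htp q)) (q.1, 0)
      rwa [htp, Equiv.swap_apply_left] at h1
    have h1 := Half.SymA.even M hzV p.1
    rw [Finset.sum_congr rfl (fun x _ => hconst (p.1, x))] at h1
    dsimp only at h1
    rw [Finset.sum_const, Finset.card_univ, Fintype.card_fin, nsmul_eq_mul, hcard, one_mul] at h1
    rw [hconst, h1]
  have : ζ = e⁻¹ := eq_inv_of_mul_eq_one_left hy1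
  rw [this]
  exact inv_mem he

end TTS

end Cfsg.Agent.Omega.IId.SwB
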